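import Cfsg.Agent.Lib.RankThree.TitsTwoTransWitness

/-!
The configuration of `CfsgLib.TitsTT.Data` inside the Tits group, given its order and index.
-/

set_option autoImplicit false
set_option linter.unusedSectionVars false
set_option maxRecDepth 4000
set_option maxHeartbeats 1000000

open Cfsg Cfsg.Lie

namespace CfsgLib.TitsTTW

open CfsgLib.RankThree.Tits CfsgLib.Chev

theorem pos_facts : ∀ r : Fin 48, (24 ≤ (r : ℕ) →
    (CfsgLib.ReeF4.JRoot true r ∨ Keep r)) ∧ (CfsgLib.ReeF4.JRoot true r → 24 ≤ (r : ℕ)) ∧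
    (CfsgLib.ReeF4.JRoot true r → ¬ Keep r) ∧
    (CfsgLib.ReeF4.JRoot true r → CfsgLib.ReeF4.JRoot true (CfsgLib.ReeF4.rho r)) ∧
    (Keep r → Keep (CfsgLib.ReeF4.rho r)) := by
  unfold CfsgLib.ReeF4.JRoot InvRoot Keep KeepRoot; decide +kernel

theorem rho_44 : CfsgLib.ReeF4.rho 44 ≠ 44 ∧ CfsgLib.ReeF4.rho 47 ≠ 47 := by decide +kernel

theorem keep_zp : Keep 40 ∧ Keep 46 := by unfold Keep KeepRoot; decide +kernel

theorem sq_mem_map {G : Type*} [Group G] {K : Subgroup G} {C : Subgroup K} (hC : C.index = 2) {x : G}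
    (hx : x ∈ K) : x * x ∈ C.map K.subtype :=
  Subgroup.mem_map.2 ⟨⟨x, hx⟩ * ⟨x, hx⟩, Subgroup.mul_self_mem_of_index_two hC _, by simp⟩

section
variable {σ : MulAut ↥(chevF4.group (ZMod 2))} (hσ : CfsgLib.ReeF4.IsSigma 0 σ)
include hσ

theorem card_pos : Nat.card ↥((uGen chevF4 (ZMod 2) Pos).subgroupOf H) = 2 ^ 12 := by
  rw [card_subgroupOf_H hσ _ (fun _ _ h => h), CfsgLib.ReeF4.card_V_pos hσ, ZMod.card]

theorem card_keep : Nat.card ↥((uGen chevF4 (ZMod 2) Keep).subgroupOf H) = 2 ^ 10 := by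
  rw [card_subgroupOf_H hσ _ (fun _ _ h => h.1)]
  have h := (CfsgLib.ReeF4.card_split hσ (P := Pos) (Q := CfsgLib.ReeF4.JRoot true) (R := Keep)
    (closedPos_pos CfsgLib.ReeF4.hc) (closedPos_inv CfsgLib.ReeF4.hc _) (closedPos_keep CfsgLib.ReeF4.hc _)
    (fun r hr a b => (pos_facts ⟨r, hr⟩).2.2.1 a b)
    (fun r hr => ⟨fun h => (pos_facts ⟨r, hr⟩).1 h,
      fun h => h.elim (pos_facts ⟨r, hr⟩).2.1 (fun h => h.1)⟩)
    (fun r hr => (pos_facts ⟨r, hr⟩).2.2.2.1) (fun r hr => (pos_facts ⟨r, hr⟩).2.2.2.2)).1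
  rw [CfsgLib.ReeF4.card_V_pos hσ, (CfsgLib.ReeF4.base_spec hσ true).2, ZMod.card] at h
  simp only [cond_true] at h
  omega

theorem not_mem_H {r : ℕ} (hr : r < chevF4.nroots) (hne : CfsgLib.ReeF4.rho r ≠ r) : wd [r] ∉ H := by
  intro h
  rw [H_eq, wd_def] at h
  have hfix := (CfsgLib.ReeF4.mem_fixF.1 (CfsgLib.ReeF4.G1_le_fix hσ h)).2
  rw [show RankThree.Tits.wordGL chevF4 [r] = elX chevF4 (ZMod 2) r 1 from by
    simp [RankThree.Tits.wordGL], CfsgLib.ReeF4.simg_elX hσ hr] at hfix
  exact hne ((elX_root_unique CfsgLib.ReeF4.hc hr (CfsgLib.ReeF4.rho_lt hr) one_ne_zero hfix.symm).symm)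

theorem wW'_eq : wd wW' = CfsgLib.ReeF4.nJ (ZMod 2) true * wd wW * (CfsgLib.ReeF4.nJ (ZMod 2) true)⁻¹ := by
  have h := congrArg Subtype.val (CfsgLib.ReeF4Out.ng_conj_qg hσ true (0 : ZMod 2) 1)
  simp only [Subgroup.coe_mul, Subgroup.coe_inv, CfsgLib.ReeF4Out.coe_qg, CfsgLib.ReeF4Out.qR,
    pow_zero, pow_one, mul_one, one_pow, zero_pow (show (2 + 1 : ℕ) ≠ 0 by norm_num), zero_add,
    CfsgLib.ReeF4Out.X_zero' hσ (show f4a < 48 by decide), CfsgLib.ReeF4Out.X_zero' hσ (show f4b < 48 by decide),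
    CfsgLib.ReeF4Out.X_zero' hσ (show f4ma < 48 by decide), CfsgLib.ReeF4Out.X_zero' hσ (show f4mb < 48 by decide),
    Bool.not_true, one_mul, CfsgLib.ReeF4Out.ng] at h
  simp only [wd_def, RankThree.Tits.wordGL, wW, wW', List.map_cons, List.map_nil, List.prod_cons,
    List.prod_nil, mul_one]
  exact h.symm

end

theorem exists_data (hidx : (commutator H).index = 2) (hcard : Nat.card TitsGroup = 17971200)
    (hperf : ∀ f : TitsGroup →* ℤˣ, f = 1) : Nonempty (CfsgLib.TitsTT.Data TitsGroup) := by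
  classical
  obtain ⟨σ, hσ⟩ := CfsgLib.ReeF4.exists_sigma (K := ZMod 2) (m := 0) (by rw [ZMod.card]; rfl)
  obtain ⟨hU, hU', hV, hW, hW'⟩ := gens_mem
  have hN : wd wN ∈ H := by rw [wN, wd_append, wd_append]; exact mul_mem (mul_mem hU hU') hU
  have hM : wd wM ∈ H := by
    rw [wM, wd_append, wd_append, wd_append]; exact mul_mem (mul_mem (mul_mem hV hW') hV) hW
  obtain ⟨ta, tb', tc, ha, hb, hc⟩ := exists_three
  have tZ : wd wZ ∈ TT := by rw [wd_def]; exact hc ▸ co_mem tc
  have tZ' : wd wZ' ∈ TT := by rw [wd_def]; exact hb ▸ co_mem tb'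
  have tA : wd [38, 43] ∈ TT := by rw [wd_def]; exact ha ▸ co_mem ta
  have tU : wd wU ∈ TT := by
    rw [weq wU ((wN ++ wM).reverse ++ [38, 43] ++ (wN ++ wM)) (by decide +kernel), wd_append, wd_append,
      ← wd_inv _ (by decide)]
    have := TT_conj (inv_mem (show wd (wN ++ wM) ∈ H by rw [wd_append]; exact mul_mem hN hM)) tA
    rwa [inv_inv] at this
  have tU' : wd wU' ∈ TT := by
    rw [weq wU' (wN ++ wU ++ wN.reverse) (by decide +kernel), wd_append, wd_append, ← wd_inv _ (by decide)]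
    exact TT_conj hN tU
  have tW : wd wW ∈ TT := by
    rw [weq wW (wV ++ wV) (by decide +kernel), wd_append]
    exact sq_mem_map hidx hV
  have tW' : wd wW' ∈ TT := by
    rw [weq wW' (wM ++ wW ++ wM.reverse) (by decide +kernel), wd_append, wd_append, ← wd_inv _ (by decide)]
    exact TT_conj hM tW
  have nV : wd wV ∉ TT := by
    intro hv
    have hle : H ≤ TT := H_le TT tU tU' hv tW tW'
    have htop : commutator H = ⊤ := by
      refine eq_top_iff.2 fun x _ => ?_
      obtain ⟨y, hy, e⟩ := hle x.2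
      rwa [← H.subtype_injective e]
    rw [htop, Subgroup.index_top] at hidx
    exact absurd hidx (by norm_num)
  have tN : wd wN ∈ TT := by rw [wN, wd_append, wd_append]; exact mul_mem (mul_mem tU tU') tU
  have tG : wd wG ∈ TT := by
    rw [weq wG (wU ++ (wV ++ wV) ++ (wV.reverse ++ wN ++ wV ++ wN.reverse)) (by decide +kernel),
      wd_append, wd_append, wd_append, wd_append, wd_append]
    refine mul_mem (mul_mem tU ?_) ?_
    · rw [← wd_append, ← weq wW (wV ++ wV) (by decide +kernel)]; exact tW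
    · rw [wd_append, ← wd_inv wV (by decide), ← wd_inv wN (by decide)]
      have := TT_comm (inv_mem hV) hN
      rwa [inv_inv] at this
  obtain ⟨g, hg⟩ := mem_TT tG
  obtain ⟨z, hz⟩ := mem_TT tZ
  obtain ⟨z', hz'⟩ := mem_TT tZ'
  obtain ⟨e, he⟩ := mem_TT (show wd wE ∈ TT by rw [wE, wd_append]; exact mul_mem tW tW')
  obtain ⟨c, hc'⟩ := mem_TT (show wd wC ∈ TT by rw [wC, wd_append]; exact mul_mem tU tU')
  set B : Subgroup TitsGroup := (uGen chevF4 (ZMod 2) Pos).comap co with hB
  set Q : Subgroup TitsGroup := (uGen chevF4 (ZMod 2) Keep).comap co with hQ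
  have hcardC : Nat.card ↥(commutator H) = 17971200 := hcard
  have cardB : Nat.card B = 2 ^ 11 := by
    rw [hB, card_comap_co]
    set X := (uGen chevF4 (ZMod 2) Pos).subgroupOf H
    have h1 := half (commutator H) X hidx
    have h2 : Nat.card ↥(X ⊓ commutator H) ∣ 2 ^ 12 :=
      card_pos hσ ▸ Subgroup.card_dvd_of_le inf_le_left
    have h3 : Nat.card ↥(X ⊓ commutator H) ∣ 17971200 :=
      hcardC ▸ Subgroup.card_dvd_of_le inf_le_right
    rw [card_pos hσ] at h1
    obtain ⟨k, hk, e⟩ := (Nat.dvd_prime_pow Nat.prime_two).1 h2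
    rw [e] at h1 h3 ⊢
    interval_cases k <;> first | rfl | omega | (norm_num at h1 h3)
  have cardQ : Nat.card B ≤ 4 * Nat.card Q := by
    rw [cardB, hQ, card_comap_co]
    have h1 := half (commutator H) ((uGen chevF4 (ZMod 2) Keep).subgroupOf H) hidx
    rw [card_keep hσ] at h1
    norm_num at h1 ⊢
    omega
  have rel : ∀ {x y : TitsGroup} (a b : List ℕ), co x = wd a → co y = wd b → chk a b = true → x = y :=
    fun a b ex ey h => co_inj (by rw [ex, ey, weq a b h])
  have cm : ∀ {x y : TitsGroup} (a b : List ℕ), co x = wd a → co y = wd b → co (x * y) = wd (a ++ b) :=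
    fun a b ex ey => by rw [map_mul, ex, ey, wd_append]
  have ci : ∀ {x : TitsGroup} (a : List ℕ), a.all (fun r => decide (r < 48)) = true → co x = wd a →
      co x⁻¹ = wd a.reverse := fun a ha ex => by rw [map_inv, ex, wd_inv a ha]
  have e1 : co (1 : TitsGroup) = wd [] := by rw [map_one, wd_nil]
  have memB : ∀ {x : TitsGroup} (l : List ℕ), co x = wd l → (∀ r ∈ l, r < chevF4.nroots ∧ Pos r) → x ∈ B :=
    fun l ex hl => by rw [hB, Subgroup.mem_comap, ex]; exact wd_mem_pos l Pos hl
  have g2 := cm _ _ hg hg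
  have g4 := cm _ _ g2 g2
  have g8' := cm _ _ g4 g4
  have g8 : g ^ 8 = z := by
    rw [show g ^ 8 = g * g * (g * g) * (g * g * (g * g)) by simp [pow_succ, mul_assoc]]
    exact rel _ _ g8' hz (by decide +kernel)
  have zz : z * z = 1 := rel _ _ (cm _ _ hz hz) e1 (by decide +kernel)
  have z_ne : z ≠ 1 := fun h => by
    refine ne_one_of_entry F4.checked (w := wZ) (by decide) 0 50 (by decide) (by decide) (by decide)
      (by decide +kernel) ?_
    rw [← wd_def, ← hz, h, map_one]
  have e_ne : e ≠ 1 := fun h => by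
    refine ne_one_of_entry F4.checked (w := wE) (by decide) 48 49 (by decide) (by decide) (by decide)
      (by decide +kernel) ?_
    rw [← wd_def, ← he, h, map_one]
  have e5 : e ^ 5 = 1 := by
    rw [show e ^ 5 = e * e * (e * e) * e by simp [pow_succ, mul_assoc]]
    exact rel _ _ (cm _ _ (cm _ _ (cm _ _ he he) (cm _ _ he he)) he) e1 (by decide +kernel)
  have c3 : c ^ 3 = 1 := by
    rw [show c ^ 3 = c * c * c by simp [pow_succ, mul_assoc]]
    exact rel _ _ (cm _ _ (cm _ _ hc' hc') hc') e1 (by decide +kernel)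
  have ze : Commute z e := rel _ _ (cm _ _ hz he) (cm _ _ he hz) (by decide +kernel)
  have cz : c * z * c⁻¹ = z' :=
    rel _ _ (cm _ _ (cm _ _ hc' hz) (ci _ (by decide) hc')) hz' (by decide +kernel)
  have cz' : c * z' * c⁻¹ = z * z' :=
    rel _ _ (cm _ _ (cm _ _ hc' hz') (ci _ (by decide) hc')) (cm _ _ hz hz') (by decide +kernel)
  have gz' : g * z' * g⁻¹ = z * z' :=
    rel _ _ (cm _ _ (cm _ _ hg hz') (ci _ (by decide) hg)) (cm _ _ hz hz') (by decide +kernel)
  have zB : ∀ b ∈ B, Commute z b := fun b hb' => by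
    refine co_inj ?_
    rw [map_mul, map_mul, hz]
    exact (pos_commute (w := wZ) (by decide) (by decide +kernel) (show co b ∈ _ from hb')).eq
  have z'_mem : z' ∈ Q := by
    rw [hQ, Subgroup.mem_comap, hz']
    exact wd_mem_pos wZ' Keep (by
      intro r hr
      simp only [wZ', List.mem_cons, List.not_mem_nil, or_false] at hr
      rcases hr with rfl | rfl
      exacts [⟨by decide, keep_zp.1⟩, ⟨by decide, keep_zp.2⟩])
  have Bz' : ∀ b ∈ B, b * z' * b⁻¹ = z' ∨ b * z' * b⁻¹ = z * z' := by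
    intro b hb'
    obtain ⟨ε, hε, heq⟩ := zp_conj (show co b ∈ _ from hb')
    have hεH : ε ∈ H := by
      have : ε = (wd wZ')⁻¹ * co (b * z' * b⁻¹) := by
        rw [map_mul, map_mul, map_inv, hz', heq, inv_mul_cancel_left]
      rw [this]
      exact mul_mem (inv_mem (TT_le tZ')) (TT_le (co_mem _))
    have hco : co (b * z' * b⁻¹) = wd wZ' * ε := by rw [map_mul, map_mul, map_inv, hz', heq]
    rcases hε with h | h | h | h
    · refine Or.inl (co_inj ?_)
      rw [hco, hz', h, mul_one]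
    · exact absurd (h ▸ hεH) (not_mem_H hσ (by decide) rho_44.1)
    · exact absurd (h ▸ hεH) (not_mem_H hσ (by decide) rho_44.2)
    · refine Or.inr (co_inj ?_)
      rw [hco, h, cm _ _ hz hz', ← wd_append, weq (wZ' ++ [44, 47]) (wZ ++ wZ') (by decide +kernel)]
  have eQ : ∀ q ∈ Q, e * q * e⁻¹ ∈ Q := by
    intro q hq
    have hWp : wd wW ∈ uGen chevF4 (ZMod 2) Pos := wd_mem_pos wW Pos (by decide)
    have h1 := CfsgLib.ReeF4Out.Xs_conj_keep hσ true hWp (show co q ∈ _ from hq)
    rw [← wW'_eq hσ] at h1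
    have h2 := CfsgLib.ReeF4Out.keep_normal hσ true hWp h1
    rw [hQ, Subgroup.mem_comap, map_mul, map_mul, map_inv, he, wE, wd_append]
    simpa [mul_assoc] using h2
  -- generation
  have gen : Subgroup.closure ((B : Set TitsGroup) ∪ {e, c}) = ⊤ := by
    set S := Subgroup.closure ((B : Set TitsGroup) ∪ {e, c})
    set M : Subgroup GG := S.map co
    have mB : ∀ {x : GG}, x ∈ TT → x ∈ uGen chevF4 (ZMod 2) Pos → x ∈ M := by
      intro x hx hp
      obtain ⟨t, rfl⟩ := mem_TT hx
      exact ⟨t, Subgroup.subset_closure (Or.inl hp), rfl⟩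
    have me : wd wE ∈ M := ⟨e, Subgroup.subset_closure (Or.inr (Or.inl rfl)), he⟩
    have mc : wd wC ∈ M := ⟨c, Subgroup.subset_closure (Or.inr (Or.inr rfl)), hc'⟩
    have mU : wd wU ∈ M := mB tU (wd_mem_pos wU Pos (by decide))
    have mW : wd wW ∈ M := mB tW (wd_mem_pos wW Pos (by decide))
    have mN : wd wN ∈ M := by
      rw [weq wN (wC ++ wU) (by decide +kernel), wd_append]; exact mul_mem mc mU
    have vP : wd wV ∈ uGen chevF4 (ZMod 2) Pos := wd_mem_pos wV Pos (by decide)
    have cU : wd wV * wd wU * (wd wV)⁻¹ ∈ M :=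
      mB (TT_conj hV tU) (mul_mem (mul_mem vP (wd_mem_pos wU Pos (by decide))) (inv_mem vP))
    have cN : wd wV * wd wN * (wd wV)⁻¹ ∈ M := by
      have hx : wd wV * wd wN * (wd wV)⁻¹ * (wd wN)⁻¹ ∈ M := by
        refine mB (TT_comm hV hN) ?_
        rw [wd_inv wV (by decide), wd_inv wN (by decide), ← wd_append, ← wd_append, ← wd_append,
          weq (wV ++ wN ++ wV.reverse ++ wN.reverse) (wV ++ [26, 34, 36]) (by decide +kernel)]
        exact wd_mem_pos _ Pos (by decide)
      have := mul_mem hx mN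
      rwa [inv_mul_cancel_right] at this
    have cC : wd wV * wd wC * (wd wV)⁻¹ ∈ M := by
      rw [weq wC (wN ++ wU) (by decide +kernel), wd_append]
      have := mul_mem cN cU
      simpa [mul_assoc] using this
    have cE : wd wV * wd wE * (wd wV)⁻¹ ∈ M := by
      rw [wd_inv wV (by decide), ← wd_append, ← wd_append,
        weq (wV ++ wE ++ wV.reverse) (wE ++ wE ++ wE) (by decide +kernel), wd_append, wd_append]
      exact mul_mem (mul_mem me me) me
    have conjM : ∀ x ∈ M, wd wV * x * (wd wV)⁻¹ ∈ M := by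
      rintro _ ⟨t, ht, rfl⟩
      induction ht using Subgroup.closure_induction with
      | mem t ht =>
        rcases ht with ht | rfl | rfl
        · exact mB (TT_conj hV (co_mem t)) (mul_mem (mul_mem vP ht) (inv_mem vP))
        · rw [he]; exact cE
        · rw [hc']; exact cC
      | one => simpa using one_mem M
      | mul a b _ _ ha hb => rw [map_mul]; simpa [mul_assoc] using mul_mem ha hb
      | inv a _ ha => rw [map_inv]; simpa [mul_assoc] using inv_mem ha
    set v := wd wV with hv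
    have hv2 : v * v ∈ M := by rw [hv, ← wd_append, ← weq wW (wV ++ wV) (by decide +kernel)]; exact mW
    have conjM' : ∀ x ∈ M, v⁻¹ * x * v ∈ M := fun x hx => by
      have := mul_mem (mul_mem (inv_mem hv2) (conjM x hx)) hv2
      simpa [mul_assoc] using this
    let J : Subgroup GG :=
      { carrier := {x | x ∈ M ∨ x * v ∈ M}
        one_mem' := Or.inl (one_mem M)
        mul_mem' := by
          rintro a b (ha | ha) (hb | hb)
          · exact Or.inl (mul_mem ha hb)
          · refine Or.inr ?_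
            rw [mul_assoc]; exact mul_mem ha hb
          · refine Or.inr ?_
            have := mul_mem ha (conjM' b hb)
            simpa [mul_assoc] using this
          · refine Or.inl ?_
            have := mul_mem (mul_mem ha (conjM' _ hb)) (inv_mem hv2)
            simpa [mul_assoc] using this
        inv_mem' := by
          rintro a (ha | ha)
          · exact Or.inl (inv_mem ha)
          · refine Or.inr ?_
            have := mul_mem (conjM _ (inv_mem ha)) hv2
            simpa [mul_assoc] using this }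
    have jv : v ∈ J := Or.inr hv2
    have jU : wd wU ∈ J := Or.inl mU
    have jW : wd wW ∈ J := Or.inl mW
    have jU' : wd wU' ∈ J := by
      rw [weq wU' (wU ++ wC) (by decide +kernel), wd_append]; exact Or.inl (mul_mem mU mc)
    have jW' : wd wW' ∈ J := by
      rw [weq wW' (wW ++ wE) (by decide +kernel), wd_append]; exact Or.inl (mul_mem mW me)
    have hHJ := H_le J jU jU' jv jW jW'
    refine eq_top_iff.2 fun t _ => ?_
    rcases hHJ (TT_le (co_mem t)) with h | h
    · obtain ⟨s, hs, e⟩ := h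
      rwa [← co_inj e]
    · refine absurd ?_ nV
      have hMT : M ≤ TT := by rintro _ ⟨s, -, rfl⟩; exact co_mem s
      have := mul_mem (inv_mem (co_mem t)) (hMT h)
      rwa [inv_mul_cancel_left] at this
  exact ⟨{
    order := hcard, perfect := hperf, B := B, Q := Q, cardB := cardB
    QB := Subgroup.comap_mono (uGen_mono fun _ _ h => h.1)
    cardQ := cardQ, g := g
    g_mem := memB wG hg (by decide)
    z := z, z' := z', e := e, c := c, g8 := g8
    g16 := by rw [show (16 : ℕ) = 8 + 8 from rfl, pow_add, g8, zz]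
    z_ne := z_ne, z'_mem := z'_mem, e5 := e5, e_ne := e_ne, eQ := eQ, ze := ze, zB := zB, Bz' := Bz'
    gz' := gz', c3 := c3, cz := cz, cz' := cz', gen := gen }⟩

end CfsgLib.TitsTTW
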