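import Mathlib

/-!
A group of order 17971200 without subgroups of index two, with a few prescribed 2-local elements,
has no faithful doubly transitive action on more than two points. This is applied to the Tits group.
-/

set_option autoImplicit false
set_option linter.unusedSectionVars false

namespace CfsgLib.TitsTT

open MulAction Equiv
open Function.Embedding (embFinTwo embFinTwo_apply_zero embFinTwo_apply_one)

/-- The configuration. -/
structure Data (T : Type*) [Group T] where
  order : Nat.card T = 17971200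
  perfect : ∀ f : T →* ℤˣ, f = 1
  B : Subgroup T
  Q : Subgroup T
  cardB : Nat.card B = 2 ^ 11
  QB : Q ≤ B
  cardQ : Nat.card B ≤ 4 * Nat.card Q
  g : T
  g_mem : g ∈ B
  z : T
  z' : T
  e : T
  c : T
  g8 : g ^ 8 = z
  g16 : g ^ 16 = 1
  z_ne : z ≠ 1
  z'_mem : z' ∈ Q
  e5 : e ^ 5 = 1
  e_ne : e ≠ 1
  eQ : ∀ q ∈ Q, e * q * e⁻¹ ∈ Q
  ze : Commute z e
  zB : ∀ b ∈ B, Commute z b
  Bz' : ∀ b ∈ B, b * z' * b⁻¹ = z' ∨ b * z' * b⁻¹ = z * z'
  gz' : g * z' * g⁻¹ = z * z'
  c3 : c ^ 3 = 1
  cz : c * z * c⁻¹ = z'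
  cz' : c * z' * c⁻¹ = z * z'
  gen : Subgroup.closure ((B : Set T) ∪ {e, c}) = ⊤

variable {T : Type*} [Group T] {Ω : Type*} [Fintype Ω] [DecidableEq Ω] [MulAction T Ω]

/-- The fixed points. -/
def fx (t : T) : Finset Ω := Finset.univ.filter fun x => t • x = x

theorem mem_fx {t : T} {x : Ω} : x ∈ fx t ↔ t • x = x := by simp [fx]

theorem smul_mem_fx {t u : T} {x : Ω} (h : u * t * u⁻¹ = t) (hx : x ∈ fx t) : u • x ∈ fx t := by
  rw [mem_fx] at hx ⊢
  calc t • u • x = (u * t * u⁻¹) • u • x := by rw [h]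
    _ = u • x := by rw [mul_smul, mul_smul, inv_smul_smul, hx]

theorem fx_conj (t u : T) :
    (fx (u * t * u⁻¹) : Finset Ω) = (fx t).image fun x => u • x := by
  ext x
  simp only [mem_fx, Finset.mem_image]
  constructor
  · intro h
    refine ⟨u⁻¹ • x, ?_, smul_inv_smul u x⟩
    rw [mul_smul, mul_smul] at h
    rw [← inv_smul_smul u (t • u⁻¹ • x), h]
  · rintro ⟨y, hy, rfl⟩
    rw [mul_smul, mul_smul, inv_smul_smul, hy]

theorem card_fx_conj (t u : T) : (fx (u * t * u⁻¹) : Finset Ω).card = (fx t : Finset Ω).card := by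
  rw [fx_conj, Finset.card_image_of_injective _ (MulAction.injective u)]

omit [Fintype Ω] [DecidableEq Ω] in
theorem eq_one_of_fix [FaithfulSMul T Ω] {t : T} (h : ∀ x : Ω, t • x = x) : t = 1 :=
  FaithfulSMul.eq_of_smul_eq_smul fun x : Ω => by rw [h, one_smul]

theorem perm_apply_inv {α : Type*} (b : Perm α) (x : α) : b (b⁻¹ x) = x := Equiv.apply_symm_apply b x

theorem perm_inv_apply {α : Type*} (b : Perm α) (x : α) : b⁻¹ (b x) = x := Equiv.symm_apply_apply b x

theorem pow_smul_fix {M α : Type*} [Monoid M] [MulAction M α] {t : M} {x : α} (h : t • x = x) :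
    ∀ k : ℕ, t ^ k • x = x
  | 0 => by rw [pow_zero, one_smul]
  | k + 1 => by rw [pow_succ, mul_smul, h, pow_smul_fix h k]

/-- Two permutations whose supports meet in one point have a three-cycle as their commutator. -/
theorem isThreeCycle_commutator {α : Type*} [Fintype α] [DecidableEq α] (a b : Perm α) {p : α}
    (hp : a p ≠ p) (hq : b p ≠ p) (h : ∀ x, a x ≠ x → b x ≠ x → x = p) :
    (a * b * a⁻¹ * b⁻¹).IsThreeCycle := by
  have hA : ∀ x, a x ≠ x → x ≠ p → b x = x := fun x h1 h2 => by_contra fun h3 => h2 (h x h1 h3)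
  have hB : ∀ x, b x ≠ x → x ≠ p → a x = x := fun x h1 h2 => by_contra fun h3 => h2 (h x h3 h1)
  have hab : a p ≠ b p := by
    intro e
    have h1 : a (a p) ≠ a p := fun h => hp (a.injective h)
    have h2 : b (a p) ≠ a p := by rw [e]; exact fun h => hq (b.injective h)
    exact hp (h _ h1 h2)
  have hap : b (a p) = a p := hA _ (fun h => hp (a.injective h)) hp
  have hbp : a (b p) = b p := hB _ (fun h => hq (b.injective h)) hq
  have key : a * b * a⁻¹ * b⁻¹ = swap p (b p) * swap p (a p) := by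
    ext x
    simp only [Perm.mul_apply]
    by_cases h1 : x = p
    · subst h1
      have r1 : b (b⁻¹ x) = x := perm_apply_inv b x
      have r2 : b⁻¹ x ≠ x := fun e => hq (by rw [← e] at hq ⊢; exact absurd (r1.trans e.symm) hq)
      have r3 : a (b⁻¹ x) = b⁻¹ x := hB _ (by rw [r1]; exact Ne.symm r2) r2
      rw [show a⁻¹ (b⁻¹ x) = b⁻¹ x from by rw [Perm.inv_eq_iff_eq]; exact r3.symm, r1,
        swap_apply_left, swap_apply_of_ne_of_ne hp hab]
    · by_cases h2 : x = a p
      · subst h2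
        rw [show b⁻¹ (a p) = a p from by rw [Perm.inv_eq_iff_eq]; exact hap.symm,
          perm_inv_apply, hbp, swap_apply_right, swap_apply_left]
      · by_cases h3 : x = b p
        · subst h3
          rw [perm_inv_apply]
          have r1 : a (a⁻¹ p) = p := perm_apply_inv a p
          have r2 : a⁻¹ p ≠ p := fun e => hp (by rw [e] at r1; exact r1)
          rw [hA _ (by rw [r1]; exact Ne.symm r2) r2, r1, swap_apply_of_ne_of_ne hq (Ne.symm hab),
            swap_apply_right]
        · rw [swap_apply_of_ne_of_ne h1 h2, swap_apply_of_ne_of_ne h1 h3]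
          by_cases hb : b x = x
          · rw [show b⁻¹ x = x from by rw [Perm.inv_eq_iff_eq]; exact hb.symm]
            have r1 : a (a⁻¹ x) = x := perm_apply_inv a x
            by_cases r2 : a⁻¹ x = x
            · rw [r2, hb]; rw [r2] at r1; exact r1
            · have r3 : a⁻¹ x ≠ p := fun e => h2 (by rw [← e, r1])
              rw [hA _ (by rw [r1]; exact Ne.symm r2) r3, r1]
          · have r1 : b (b⁻¹ x) = x := perm_apply_inv b x
            have r0 : b⁻¹ x ≠ p := fun e => h3 (by rw [← e, r1])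
            have r2 : b⁻¹ x ≠ x := fun e => hb (by rw [e] at r1; exact r1)
            have r3 : a (b⁻¹ x) = b⁻¹ x := hB _ (by rw [r1]; exact Ne.symm r2) r0
            rw [show a⁻¹ (b⁻¹ x) = b⁻¹ x from by rw [Perm.inv_eq_iff_eq]; exact r3.symm, r1]
            exact hB x hb h1
  rw [key]
  exact Perm.isThreeCycle_swap_mul_swap_same (Ne.symm hq) (Ne.symm hp) (Ne.symm hab)

theorem small_pow (j : ℕ) (hj : j < 5) (i : ℕ) (hi : i < 5) (hij : i ≤ j)
    (h : 2 ^ i % 5 = 2 ^ j % 5) : i = j ∨ (i = 0 ∧ j = 4) := by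
  interval_cases j <;> interval_cases i <;> omega

/-- An element of order five normalising a 2-group fixes a small invariant set pointwise. -/
theorem fix_of_normalizes [Finite T] (Q : Subgroup T) (hQ : IsPGroup 2 Q) (e z : T) (he : e ^ 5 = 1)
    (hn : ∀ q ∈ Q, e * q * e⁻¹ ∈ Q) (hze : Commute z e) (hz : z ∈ Q) (S : Finset Ω)
    (hSQ : ∀ q ∈ Q, ∀ x ∈ S, q • x ∈ S) (hSe : ∀ x ∈ S, e • x ∈ S)
    (hbig : ∀ x ∈ S, S.card ≤ 4 * (Nat.card (orbit Q x)))
    (hsmall : S.card ≤ 8 ∨ (S.card ≤ 16 ∧ ∀ x ∈ S, z • x ≠ x)) {x : Ω} (hx : x ∈ S) : e • x = x := by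
  classical
  have : Fintype T := Fintype.ofFinite T
  have hiter : ∀ i : ℕ, ∀ q ∈ Q, e ^ i * q * (e ^ i)⁻¹ ∈ Q := by
    intro i
    induction i with
    | zero => intro q hq; simpa using hq
    | succ i ih =>
      intro q hq
      have := hn _ (ih q hq)
      rw [pow_succ', _root_.mul_inv_rev]
      simpa [mul_assoc] using this
  have hn' : ∀ q ∈ Q, e⁻¹ * q * e ∈ Q := by
    intro q hq
    have h4 : e ^ 4 = e⁻¹ := eq_inv_of_mul_eq_one_left (by rw [← pow_succ, he])
    have := hiter 4 q hq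
    rwa [h4, inv_inv] at this
  have hpow : ∀ i : ℕ, e ^ i • x ∈ S := by
    intro i
    induction i with
    | zero => simpa using hx
    | succ i ih => rw [pow_succ', mul_smul]; exact hSe _ ih
  have hiter' : ∀ i : ℕ, ∀ q ∈ Q, (e ^ i)⁻¹ * q * e ^ i ∈ Q := by
    intro i
    induction i with
    | zero => intro q hq; simpa using hq
    | succ i ih =>
      intro q hq
      have := ih _ (hn' q hq)
      rw [pow_succ', _root_.mul_inv_rev]
      simpa [mul_assoc] using this
  let O : Finset Ω := Finset.univ.filter fun y => y ∈ orbit Q x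
  have hO : ∀ y, y ∈ O ↔ ∃ q ∈ Q, q • x = y := fun y => by
    simp only [O, Finset.mem_filter, Finset.mem_univ, true_and, mem_orbit_iff]
    exact ⟨fun ⟨q, h⟩ => ⟨q.1, q.2, h⟩, fun ⟨q, hq, h⟩ => ⟨⟨q, hq⟩, h⟩⟩
  have hOc : O.card = Nat.card (orbit Q x) := by
    rw [Nat.card_eq_fintype_card, ← Set.toFinset_card]
    exact congrArg Finset.card (by ext y; simp [O])
  have hOS : O ⊆ S := fun y hy => by
    obtain ⟨q, hq, rfl⟩ := (hO y).1 hy
    exact hSQ q hq x hx
  obtain ⟨j, hj⟩ := hQ.card_orbit x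
  rw [← hOc] at hj
  have hxO : x ∈ O := (hO x).2 ⟨1, one_mem _, one_smul _ _⟩
  -- the orbit is invariant
  have hex : e • x ∈ O := by
    by_contra hne
    have hk : ∀ k : ℕ, e ^ k • x ∈ O → ∀ y ∈ O, e ^ k • y ∈ O := by
      intro k h y hy
      obtain ⟨q, hq, rfl⟩ := (hO y).1 hy
      obtain ⟨q', hq', h'⟩ := (hO _).1 h
      refine (hO _).2 ⟨e ^ k * q * (e ^ k)⁻¹ * q', mul_mem (hiter k q hq) hq', ?_⟩
      rw [mul_smul, h', mul_smul, mul_smul, inv_smul_smul]
    have hbad : ∀ k, 0 < k → k < 5 → e ^ k • x ∉ O := by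
      intro k h0 h5 h
      have hmul : ∀ r : ℕ, e ^ (k * r) • x ∈ O := by
        intro r
        induction r with
        | zero => simpa using hxO
        | succ r ih => rw [Nat.mul_succ, Nat.add_comm, pow_add, mul_smul]; exact hk k h _ ih
      obtain ⟨r, hr⟩ : ∃ r, (k * r) % 5 = 1 := by
        interval_cases k
        exacts [⟨1, rfl⟩, ⟨3, rfl⟩, ⟨2, rfl⟩, ⟨4, rfl⟩]
      have := hmul r
      rw [← Nat.div_add_mod (k * r) 5, hr, pow_add, pow_mul, he, one_pow, one_mul, pow_one] at this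
      exact hne this
    let Oi : Fin 5 → Finset Ω := fun i => O.image fun y => e ^ i.1 • y
    have hdis : ∀ i j : Fin 5, i.1 < j.1 → Disjoint (Oi i) (Oi j) := by
      intro i j hij
      rw [Finset.disjoint_left]
      intro y hy hy'
      simp only [Oi, Finset.mem_image] at hy hy'
      obtain ⟨u, hu, rfl⟩ := hy
      obtain ⟨v, hv, hv'⟩ := hy'
      have hvu : e ^ (j.1 - i.1) • v = u := by
        refine MulAction.injective (e ^ i.1) ?_
        show e ^ i.1 • e ^ (j.1 - i.1) • v = e ^ i.1 • u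
        rw [← mul_smul, ← pow_add, Nat.add_sub_of_le hij.le, hv']
      obtain ⟨q, hq, rfl⟩ := (hO v).1 hv
      obtain ⟨q', hq', rfl⟩ := (hO u).1 hu
      refine hbad (j.1 - i.1) (by omega) (by omega) ((hO _).2
        ⟨(e ^ (j.1 - i.1) * q * (e ^ (j.1 - i.1))⁻¹)⁻¹ * q',
          mul_mem (inv_mem (hiter _ q hq)) hq', ?_⟩)
      rw [mul_smul, ← hvu, ← mul_smul, ← mul_smul]
      congr 1
      group
    have hpair : ∀ i ∈ (Finset.univ : Finset (Fin 5)), ∀ j ∈ (Finset.univ : Finset (Fin 5)), i ≠ j →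
        Disjoint (Oi i) (Oi j) := fun i _ j _ hij => by
      rcases lt_or_gt_of_ne (fun h => hij (Fin.ext h) : i.1 ≠ j.1) with h | h
      · exact hdis i j h
      · exact (hdis j i h).symm
    have hsub : Finset.univ.biUnion Oi ⊆ S := by
      intro y hy
      simp only [Finset.mem_biUnion, Finset.mem_univ, true_and, Oi, Finset.mem_image] at hy
      obtain ⟨i, u, hu, rfl⟩ := hy
      obtain ⟨q, hq, rfl⟩ := (hO u).1 hu
      have := hSQ _ (hiter i.1 q hq) _ (hpow i.1)
      rwa [← mul_smul, inv_mul_cancel_right, mul_smul] at this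
    have h5 := Finset.card_le_card hsub
    rw [Finset.card_biUnion hpair] at h5
    simp only [Oi, Finset.card_image_of_injective _ (MulAction.injective _), Finset.sum_const,
      Finset.card_univ, Fintype.card_fin, smul_eq_mul] at h5
    have h4 := hbig x hx
    rw [← hOc] at h4
    have : 0 < O.card := Finset.card_pos.2 ⟨x, hxO⟩
    omega
  have heO : ∀ y, y ∈ O → e • y ∈ O := by
    intro y hy
    obtain ⟨q, hq, rfl⟩ := (hO y).1 hy
    obtain ⟨q', hq', h'⟩ := (hO _).1 hex
    refine (hO _).2 ⟨e * q * e⁻¹ * q', mul_mem (hn q hq) hq', ?_⟩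
    rw [mul_smul, h', mul_smul, mul_smul, inv_smul_smul]
  let σ : Perm O := Equiv.ofBijective (fun y => ⟨e • y.1, heO y.1 y.2⟩)
    (Finite.injective_iff_bijective.1 fun a b h =>
      Subtype.ext (MulAction.injective e (congrArg Subtype.val h)))
  have hσ : ∀ (i : ℕ) (y : O), ((σ ^ i) y).1 = e ^ i • y.1 := by
    intro i
    induction i with
    | zero => simp
    | succ i ih => intro y; rw [pow_succ', Perm.mul_apply, pow_succ', mul_smul, ← ih]; rfl
  have hσ5 : σ ^ 5 ^ 1 = 1 := by
    refine Equiv.ext fun y => Subtype.ext ?_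
    rw [hσ, pow_one, he, one_smul]; rfl
  haveI : Fact (Nat.Prime 5) := ⟨by norm_num⟩
  -- the fixed points in the orbit
  let F : Finset Ω := O.filter fun y => e • y = y
  have hmod : F.card ≡ O.card [MOD 5] := by
    have h := Perm.card_compl_support_modEq hσ5
    rw [Fintype.card_coe] at h
    have heq : (σ.supportᶜ).map (Function.Embedding.subtype _) = F := by
      ext y
      simp only [Finset.mem_map, Finset.mem_compl, Perm.mem_support, not_not, F, Finset.mem_filter,
        Function.Embedding.subtype_apply]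
      constructor
      · rintro ⟨u, hu, rfl⟩; exact ⟨u.2, congrArg Subtype.val hu⟩
      · rintro ⟨h1, h2⟩; exact ⟨⟨y, h1⟩, Subtype.ext h2, rfl⟩
    rwa [← heq, Finset.card_map]
  obtain ⟨y₀, hy₀⟩ : F.Nonempty := by
    rw [← Finset.card_pos]
    by_contra h0
    rw [Nat.eq_zero_of_not_pos h0, hj] at hmod
    have h5 : (5 : ℕ) ∣ 2 ^ j := Nat.modEq_zero_iff_dvd.1 hmod.symm
    exact absurd ((Nat.prime_five).dvd_of_dvd_pow h5) (by norm_num)
  let K : Subgroup T := Q ⊓ Subgroup.centralizer {e}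
  have hKc : ∀ q ∈ K, q * e = e * q := fun q hq =>
    (Subgroup.mem_centralizer_iff.1 hq.2 e rfl).symm
  -- the centraliser of `e` is transitive on the fixed points
  have hFK : ∀ y, y ∈ F ↔ y ∈ orbit K y₀ := by
    obtain ⟨hy₀O, hy₀e⟩ := Finset.mem_filter.1 hy₀
    intro y
    rw [mem_orbit_iff]
    constructor
    · intro hy
      obtain ⟨hyO, hye⟩ := Finset.mem_filter.1 hy
      obtain ⟨q₀, hq₀, h₀⟩ := (hO y₀).1 hy₀O
      obtain ⟨q₁, hq₁, h₁⟩ := (hO y).1 hyO
      let A := {q : T // q ∈ Q ∧ q • y₀ = y}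
      have hA0 : (q₁ * q₀⁻¹) ∈ Q ∧ (q₁ * q₀⁻¹) • y₀ = y :=
        ⟨mul_mem hq₁ (inv_mem hq₀), by rw [← h₀, mul_smul, inv_smul_smul, h₁]⟩
      have hcl : ∀ q : A, e * q.1 * e⁻¹ ∈ Q ∧ (e * q.1 * e⁻¹) • y₀ = y := fun q => by
        refine ⟨hn _ q.2.1, ?_⟩
        have : e⁻¹ • y₀ = y₀ := by rw [inv_smul_eq_iff, hy₀e]
        rw [mul_smul, mul_smul, this, q.2.2, hye]
      let τ : Perm A := Equiv.ofBijective (fun q => ⟨e * q.1 * e⁻¹, hcl q⟩)
        (Finite.injective_iff_bijective.1 fun a b h => Subtype.ext (by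
          simpa using congrArg Subtype.val h))
      have hτ : ∀ (i : ℕ) (q : A), ((τ ^ i) q).1 = e ^ i * q.1 * (e ^ i)⁻¹ := by
        intro i
        induction i with
        | zero => simp
        | succ i ih =>
          intro q
          rw [pow_succ', Perm.mul_apply]
          show e * ((τ ^ i) q).1 * e⁻¹ = _
          rw [ih, pow_succ', _root_.mul_inv_rev]
          simp only [mul_assoc]
      have hτ5 : τ ^ 5 ^ 1 = 1 := by
        refine Equiv.ext fun q => Subtype.ext ?_
        rw [hτ, pow_one, he]; simp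
      let St : Subgroup T := Q ⊓ stabilizer T y₀
      have hAcard : Fintype.card A = Fintype.card St := by
        refine Fintype.card_congr ⟨fun q => ⟨(q₁ * q₀⁻¹)⁻¹ * q.1, Q.mul_mem (Q.inv_mem hA0.1) q.2.1, ?_⟩,
          fun q => ⟨(q₁ * q₀⁻¹) * q.1, Q.mul_mem hA0.1 q.2.1, ?_⟩, fun q => ?_, fun q => ?_⟩
        · show ((q₁ * q₀⁻¹)⁻¹ * q.1) • y₀ = y₀
          rw [mul_smul, q.2.2, inv_smul_eq_iff, hA0.2]
        · have : q.1 • y₀ = y₀ := q.2.2
          rw [mul_smul, this, hA0.2]
        · exact Subtype.ext (mul_inv_cancel_left _ _)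
        · exact Subtype.ext (inv_mul_cancel_left _ _)
      have h5 : ¬ 5 ∣ Fintype.card A := by
        rw [hAcard]
        have hp : IsPGroup 2 St := hQ.to_le inf_le_left
        obtain ⟨i, hi⟩ := IsPGroup.iff_card.1 hp
        rw [← Nat.card_eq_fintype_card, hi]
        exact fun h => absurd ((Nat.prime_five).dvd_of_dvd_pow h) (by norm_num)
      obtain ⟨q, hq⟩ := Perm.exists_fixed_point_of_prime h5 hτ5
      have hq' : e * q.1 * e⁻¹ = q.1 := congrArg Subtype.val hq
      exact ⟨⟨q.1, q.2.1, Subgroup.mem_centralizer_singleton_iff.2 (by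
        rw [mul_inv_eq_iff_eq_mul] at hq'; exact hq'.symm)⟩, q.2.2⟩
    · rintro ⟨⟨q, hq⟩, rfl⟩
      refine Finset.mem_filter.2 ⟨?_, ?_⟩
      · obtain ⟨q₀, hq₀, h₀⟩ := (hO y₀).1 hy₀O
        exact (hO _).2 ⟨q * q₀, mul_mem hq.1 hq₀, by rw [mul_smul, h₀]; rfl⟩
      · show e • q • y₀ = q • y₀
        rw [← mul_smul, ← hKc q hq, mul_smul, hy₀e]
  obtain ⟨i, hi⟩ := (hQ.to_le (inf_le_left : K ≤ Q)).card_orbit y₀
  have hFi : F.card = 2 ^ i := by
    rw [← hi, Nat.card_eq_fintype_card, ← Set.toFinset_card]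
    exact congrArg Finset.card (by ext y; simp [hFK, K])
  have hFO : F.card ≤ O.card := Finset.card_le_card (Finset.filter_subset _ _)
  have hOle : O.card ≤ S.card := Finset.card_le_card hOS
  have hall : F.card = O.card := by
    rw [hFi, hj] at hFO hmod ⊢
    rw [hj] at hOle
    have hj4 : j ≤ 4 := by
      by_contra h
      have : 2 ^ 5 ≤ 2 ^ j := Nat.pow_le_pow_right (by norm_num) (by omega)
      omega
    have hij : i ≤ j := (Nat.pow_le_pow_iff_right (by norm_num)).1 hFO
    by_contra hne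
    have hspecial : i = 0 ∧ j = 4 := by
      refine (small_pow j (by omega) i (by omega) hij hmod).resolve_left fun h => hne ?_
      rw [h]
    obtain ⟨rfl, rfl⟩ := hspecial
    rcases hsmall with h8 | ⟨-, hz'⟩
    · omega
    · obtain ⟨hy₀O, hy₀e⟩ := Finset.mem_filter.1 hy₀
      have hzy : z • y₀ ∈ F := by
        rw [hFK]
        exact ⟨⟨z, hz, Subgroup.mem_centralizer_singleton_iff.2 hze.eq⟩, rfl⟩
      have h1 := Finset.card_le_one.1 (by rw [hFi]; norm_num : F.card ≤ 1) _ hzy _ hy₀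
      exact hz' y₀ (hOS hy₀O) h1
  have hxF : x ∈ F := by
    have hFeq : F = O := Finset.eq_of_subset_of_card_le (Finset.filter_subset _ _) hall.ge
    rw [hFeq]
    exact hxO
  exact (Finset.mem_filter.1 hxF).2

section main

variable [FaithfulSMul T Ω] [Finite T] (D : Data T)

theorem Data.g4_mem : D.g ^ 4 ∈ D.Q := by
  set Q' := D.Q.subgroupOf D.B
  have hmul : Q'.index * Nat.card D.Q = 2 ^ 11 := by
    rw [← D.cardB, ← Nat.card_congr (Subgroup.subgroupOfEquivOfLe D.QB).toEquiv, mul_comm,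
      Subgroup.card_mul_index]
  obtain ⟨k, -, hk⟩ := (Nat.dvd_prime_pow Nat.prime_two).1 ⟨_, hmul.symm⟩
  have hk2 : k ≤ 2 := by
    have h := D.cardQ
    rw [D.cardB, ← hmul, hk] at h
    have h4 : 2 ^ k ≤ 2 ^ 2 := Nat.le_of_mul_le_mul_right h Nat.card_pos
    exact (Nat.pow_le_pow_iff_right (by norm_num)).1 h4
  obtain ⟨i, hi0, hi, hiQ⟩ := Subgroup.exists_pow_mem_of_index_ne_zero
    (H := Q') (by rw [hk]; positivity) ⟨D.g, D.g_mem⟩
  rw [hk] at hi
  have hi4 : i ≤ 4 := hi.trans ((Nat.pow_le_pow_right (by norm_num) hk2).trans (by norm_num))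
  have hiQ' : D.g ^ i ∈ D.Q := hiQ
  interval_cases i
  · simpa using pow_mem hiQ' 4
  · simpa [← pow_mul] using pow_mem hiQ' 2
  · have h := pow_mem hiQ' 12
    rwa [← pow_mul, show 3 * 12 = 16 * 2 + 4 by norm_num, pow_add, pow_mul, D.g16, one_pow, one_mul] at h
  · exact hiQ'

theorem Data.z_mem : D.z ∈ D.Q := by
  have := pow_mem D.g4_mem 2
  rwa [← pow_mul, D.g8] at this

theorem Data.isPGroup : IsPGroup 2 D.Q :=
  (IsPGroup.of_card D.cardB).to_le D.QB

theorem Data.smul_pres {b : T} (hb : b ∈ D.B) {x : Ω} : b • x ∈ fx D.z ↔ x ∈ fx D.z := by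
  have key : ∀ b ∈ D.B, ∀ x : Ω, x ∈ fx D.z → b • x ∈ fx D.z := fun b hb x hx =>
    smul_mem_fx (by rw [← (D.zB b hb).eq, mul_inv_cancel_right]) hx
  exact ⟨fun h => by simpa using key _ (inv_mem hb) _ h, key b hb x⟩

theorem Data.e_pres {x : Ω} : D.e • x ∈ fx D.z ↔ x ∈ fx D.z := by
  have key : ∀ x : Ω, x ∈ fx D.z → D.e • x ∈ fx D.z := fun x hx =>
    smul_mem_fx (by rw [← D.ze.eq, mul_inv_cancel_right]) hx
  refine ⟨fun h => ?_, key x⟩
  have := key _ (key _ (key _ (key _ h)))
  simp only [← mul_smul] at this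
  rwa [show D.e * (D.e * (D.e * (D.e * D.e))) = D.e ^ 5 by simp [pow_succ, mul_assoc], D.e5,
    one_smul] at this

/-- The support of `z` is a union of 16-cycles of `g`. -/
theorem Data.sixteen_dvd : 16 ∣ ((fx D.z)ᶜ : Finset Ω).card := by
  classical
  set S : Finset Ω := (fx D.z)ᶜ
  let G' := Subgroup.zpowers D.g
  have hG : ∀ u : G', ∀ x ∈ S, u.1 • x ∈ S := fun u x hx => by
    have hb : u.1 ∈ D.B := Subgroup.zpowers_le.2 D.g_mem u.2
    rw [Finset.mem_compl] at hx ⊢
    rwa [D.smul_pres hb]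
  letI : MulAction G' S :=
    { smul := fun u x => ⟨u.1 • x.1, hG u x.1 x.2⟩
      one_smul := fun x => Subtype.ext (one_smul _ x.1)
      mul_smul := fun u v x => Subtype.ext (mul_smul u.1 v.1 x.1) }
  have hfree : ∀ x : S, stabilizer G' x = ⊥ := by
    intro x
    rw [eq_bot_iff]
    intro u hu
    obtain ⟨i, hi⟩ := Subgroup.mem_zpowers_iff.1 u.2
    have hx : D.g ^ i • x.1 = x.1 := by rw [hi]; exact congrArg Subtype.val hu
    by_contra hne
    have hord : orderOf D.g = 2 ^ 4 := orderOf_eq_prime_pow (by rw [show (2 : ℕ) ^ 3 = 8 from rfl, D.g8]; exact D.z_ne)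
      (by rw [show (2 : ℕ) ^ (3 + 1) = 16 from rfl]; exact D.g16)
    have hcyc : IsPGroup 2 G' := IsPGroup.of_card (n := 4) (by rw [Nat.card_zpowers, hord])
    let St := Subgroup.zpowers u.1
    have hne' : u.1 ≠ 1 := fun e => hne (Subgroup.mem_bot.2 (Subtype.ext e))
    obtain ⟨m, hm⟩ : ∃ m, orderOf u.1 = 2 ^ m := by
      obtain ⟨m, hm⟩ := IsPGroup.iff_orderOf.1 hcyc u
      exact ⟨m, by rw [Subgroup.orderOf_coe, hm]⟩
    obtain ⟨m, rfl⟩ : ∃ m', m = m' + 1 := ⟨m - 1, by
      rcases Nat.eq_zero_or_pos m with rfl | h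
      · exact absurd (orderOf_eq_one_iff.1 (by simpa using hm)) hne'
      · omega⟩
    -- the involution of the cyclic group is `z`
    set v := u.1 ^ 2 ^ m with hv
    have hv2 : v ^ 2 = 1 := by rw [hv, ← pow_mul, ← pow_succ, ← hm, pow_orderOf_eq_one]
    have hv1 : v ≠ 1 := fun e => by
      have := orderOf_dvd_of_pow_eq_one e
      rw [hm] at this
      have := Nat.le_of_dvd (pow_pos two_pos m) this
      rw [pow_succ] at this
      have := pow_pos two_pos (M₀ := ℕ) m
      omega
    have hvx : v • x.1 = x.1 := by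
      rw [hv]
      exact pow_smul_fix (show u.1 • x.1 = x.1 from congrArg Subtype.val hu) _
    obtain ⟨r, hr⟩ : ∃ r : ℤ, D.g ^ r = v := ⟨i * (2 ^ m : ℕ), by rw [zpow_mul, hi, zpow_natCast]⟩
    have h16 : (16 : ℤ) ∣ 2 * r := by
      have : D.g ^ (2 * r) = 1 := by rw [mul_comm, zpow_mul, hr, zpow_ofNat, hv2]
      have h := orderOf_dvd_iff_zpow_eq_one.2 this
      rwa [hord] at h
    obtain ⟨q, hq⟩ : (8 : ℤ) ∣ r := by omega
    have hodd : q % 2 = 1 := by
      rcases Int.emod_two_eq_zero_or_one q with h | h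
      · exfalso
        obtain ⟨q', rfl⟩ := Int.dvd_of_emod_eq_zero h
        apply hv1
        rw [← hr, hq, show (8 : ℤ) * (2 * q') = (16 : ℕ) * q' by push_cast; ring, zpow_mul,
          zpow_natCast, D.g16, one_zpow]
      · exact h
    have hvz : v = D.z := by
      rw [← hr, hq, show (8 : ℤ) * q = (16 : ℕ) * (q / 2) + (8 : ℕ) by omega, zpow_add, zpow_mul,
        zpow_natCast, zpow_natCast, D.g16, one_zpow, one_mul, D.g8]
    exact (Finset.mem_compl.1 x.2) (mem_fx.2 (hvz ▸ hvx))
  have e := MulAction.selfEquivOrbitsQuotientProd hfree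
  have h := Nat.card_congr e
  rw [Nat.card_prod, Nat.card_zpowers] at h
  rw [Nat.card_eq_fintype_card, Fintype.card_coe] at h
  have hord : orderOf D.g = 16 := orderOf_eq_prime_pow (p := 2) (n := 3)
    (by rw [show (2 : ℕ) ^ 3 = 8 from rfl, D.g8]; exact D.z_ne)
    (by rw [show (2 : ℕ) ^ (3 + 1) = 16 from rfl]; exact D.g16)
  rw [hord] at h
  exact Dvd.intro_left _ h.symm

variable (h2 : IsMultiplyPretransitive T Ω 2)
include h2

/-- A set invariant under the generators is empty or everything. -/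
theorem Data.invariant_univ (S : Finset Ω) (hB : ∀ b ∈ D.B, ∀ x ∈ S, b • x ∈ S)
    (he : ∀ x ∈ S, D.e • x ∈ S) (hc : ∀ x ∈ S, D.c • x ∈ S) {x₀ : Ω} (hx₀ : x₀ ∈ S) (y : Ω) :
    y ∈ S := by
  classical
  haveI := isPretransitive_of_is_two_pretransitive (h2 := h2)
  obtain ⟨t, rfl⟩ := exists_smul_eq T x₀ y
  have ht : t ∈ Subgroup.closure ((D.B : Set T) ∪ {D.e, D.c}) := by rw [D.gen]; trivial
  suffices h : ∀ x, x ∈ S → t • x ∈ S from h _ hx₀
  clear hx₀ x₀
  refine Subgroup.closure_induction ?_ ?_ ?_ ?_ ht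
  · rintro u (hu | rfl | rfl)
    exacts [hB u hu, he, hc]
  · intro x hx; rwa [one_smul]
  · intro u v _ _ hu hv x hx; rw [mul_smul]; exact hu _ (hv x hx)
  · intro u _ hu x hx
    obtain ⟨y, hy, hyx⟩ := Finset.surj_on_of_inj_on_of_card_le (s := S) (t := S) (fun a _ => u • a)
      (fun a ha => hu a ha) (fun a b _ _ h => MulAction.injective u h) le_rfl x hx
    rw [hyx, inv_smul_smul]; exact hy

theorem Data.z'_pres {b : T} (hb : b ∈ D.B) {x : Ω} (h1 : x ∈ fx D.z) (h : x ∈ fx D.z') :
    b • x ∈ fx D.z' := by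
  rw [mem_fx] at h1 h ⊢
  have key : (b⁻¹ * D.z' * b) • x = x := by
    rcases D.Bz' b⁻¹ (inv_mem hb) with e | e <;> rw [inv_inv] at e <;> rw [e]
    · exact h
    · rw [mul_smul, h, h1]
  rw [mul_smul, mul_smul, inv_smul_eq_iff] at key
  exact key

/-- The supports of `z` and `z'` differ, unless `z` has no fixed point. -/
theorem Data.fixed_ne {x₀ : Ω} (hx₀ : x₀ ∈ fx D.z) : (fx D.z : Finset Ω) ≠ fx D.z' := by
  intro heq
  have h := D.invariant_univ h2 (fx D.z) (fun b hb x hx => (D.smul_pres hb).2 hx)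
    (fun x hx => D.e_pres.2 hx) (fun x hx => by
      have : D.c • x ∈ fx (D.c * D.z * D.c⁻¹) := by
        rw [fx_conj]; exact Finset.mem_image_of_mem _ hx
      rwa [D.cz, ← heq] at this) hx₀
  exact D.z_ne (eq_one_of_fix fun y : Ω => mem_fx.1 (h y))

omit [FaithfulSMul T Ω] in
theorem card_pair {x y : Ω} (hxy : x ≠ y) :
    Fintype.card Ω * (Fintype.card Ω - 1) * Nat.card ↥(stabilizer T x ⊓ stabilizer T y) =
      Nat.card T := by
  classical
  have h := index_stabilizer_of_transitive T (embFinTwo hxy)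
  have e : stabilizer T (embFinTwo hxy) = stabilizer T x ⊓ stabilizer T y := by
    ext t
    simp only [mem_stabilizer_iff, Subgroup.mem_inf]
    constructor
    · intro h
      refine ⟨?_, ?_⟩
      · exact congrArg (fun f : Fin 2 ↪ Ω => f 0) h
      · exact congrArg (fun f : Fin 2 ↪ Ω => f 1) h
    · rintro ⟨h0, h1⟩
      refine Function.Embedding.ext fun i => ?_
      fin_cases i <;> [exact h0; exact h1]
  rw [e, Nat.card_eq_fintype_card, Fintype.card_embedding_eq, Fintype.card_fin] at h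
  rw [← Subgroup.index_mul_card (stabilizer T x ⊓ stabilizer T y), h, Nat.descFactorial_succ,
    Nat.descFactorial_one, Nat.mul_comm (Fintype.card Ω - 1)]

/-- An element whose order does not divide the order of a two-point stabiliser fixes at most one point. -/
theorem Data.fix_le_one (D : Data T) {t : T} {k m : ℕ} (hk : orderOf t = k)
    (hn : Fintype.card Ω * (Fintype.card Ω - 1) * m = 17971200) (hkm : ¬ k ∣ m)
    (hpos : 0 < Fintype.card Ω * (Fintype.card Ω - 1)) {x y : Ω}
    (hx : t • x = x) (hy : t • y = y) : x = y := by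
  by_contra hxy
  have h := card_pair (T := T) h2 hxy
  rw [D.order, ← hn] at h
  have hm := Nat.eq_of_mul_eq_mul_left hpos h
  have := Subgroup.orderOf_dvd_natCard (stabilizer T x ⊓ stabilizer T y) (x := t) ⟨hx, hy⟩
  rw [hk, hm] at this
  exact hkm this

theorem Data.orderOf_e : orderOf D.e = 5 := by
  haveI : Fact (Nat.Prime 5) := ⟨by norm_num⟩
  exact orderOf_eq_prime D.e5 D.e_ne

/-- `e` fixes the support of `z` pointwise when that has 16 points. -/
theorem Data.e_fix_moved (hM : ((fx D.z)ᶜ : Finset Ω).card = 16) {x : Ω} (hx : D.z • x ≠ x) :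
    D.e • x = x := by
  classical
  refine fix_of_normalizes D.Q D.isPGroup D.e D.z D.e5 D.eQ D.ze D.z_mem ((fx D.z)ᶜ)
    (fun q hq y hy => ?_) (fun y hy => ?_) (fun y hy => ?_) (Or.inr ⟨hM.le, fun y hy => ?_⟩)
    (Finset.mem_compl.2 fun h => hx (mem_fx.1 h))
  · rw [Finset.mem_compl] at hy ⊢
    rwa [D.smul_pres (D.QB hq)]
  · rw [Finset.mem_compl] at hy ⊢
    rwa [D.e_pres]
  · have hz : D.z • y ≠ y := fun h => Finset.mem_compl.1 hy (mem_fx.2 h)
    have hinj : Function.Injective (fun i : Fin 4 =>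
        (⟨((⟨D.g ^ 4, D.g4_mem⟩ : D.Q) ^ i.1) • y, mem_orbit _ _⟩ : orbit D.Q y)) := by
      have hne : ∀ k : ℕ, 0 < k → k < 4 → (D.g ^ 4) ^ k • y ≠ y := by
        intro k h0 h4 h
        apply hz
        rw [← D.g8]
        interval_cases k
        · simpa [← pow_mul] using pow_smul_fix h 2
        · simpa [← pow_mul] using h
        · have := pow_smul_fix h 2
          rw [← pow_mul, ← pow_mul, show 4 * (3 * 2) = 16 + 8 by norm_num, pow_add, D.g16,
            one_mul] at this
          exact this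
      intro i j hij
      have h : (D.g ^ 4) ^ i.1 • y = (D.g ^ 4) ^ j.1 • y := congrArg Subtype.val hij
      rcases lt_trichotomy i.1 j.1 with hlt | heq | hlt
      · exfalso
        apply hne (j.1 - i.1) (by omega) (by omega)
        refine MulAction.injective ((D.g ^ 4) ^ i.1) ?_
        show (D.g ^ 4) ^ i.1 • (D.g ^ 4) ^ (j.1 - i.1) • y = (D.g ^ 4) ^ i.1 • y
        rw [← mul_smul, ← pow_add, Nat.add_sub_of_le hlt.le, ← h]
      · exact Fin.ext heq
      · exfalso
        apply hne (i.1 - j.1) (by omega) (by omega)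
        refine MulAction.injective ((D.g ^ 4) ^ j.1) ?_
        show (D.g ^ 4) ^ j.1 • (D.g ^ 4) ^ (i.1 - j.1) • y = (D.g ^ 4) ^ j.1 • y
        rw [← mul_smul, ← pow_add, Nat.add_sub_of_le hlt.le, h]
    have := Nat.card_le_card_of_injective _ hinj
    rw [Nat.card_fin] at this
    exact hM.le.trans (Nat.mul_le_mul_left 4 this)
  · exact fun h => Finset.mem_compl.1 hy (mem_fx.2 h)

theorem Data.no_twentyseven (D : Data T) (hn : Fintype.card Ω = 27) : False := by
  classical
  have hM : ((fx D.z)ᶜ : Finset Ω).card = 16 := by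
    obtain ⟨q, hq⟩ := D.sixteen_dvd (Ω := Ω)
    have hle := Finset.card_le_univ ((fx D.z)ᶜ : Finset Ω)
    have hne : ((fx D.z)ᶜ : Finset Ω).card ≠ 0 := fun h0 => D.z_ne (eq_one_of_fix fun y : Ω =>
      mem_fx.1 (by_contra fun hy =>
        (Finset.eq_empty_iff_forall_notMem.1 (Finset.card_eq_zero.1 h0)) y (Finset.mem_compl.2 hy)))
    omega
  set M : Finset Ω := (fx D.z)ᶜ
  have hcardz : (fx D.z : Finset Ω).card = 11 := by
    have := Finset.card_compl (fx D.z : Finset Ω); rw [hM, hn] at this; omega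
  have hcardz' : (fx D.z' : Finset Ω).card = 11 := by rw [← D.cz, card_fx_conj, hcardz]
  have hcomm : Commute D.z D.z' := D.zB _ (D.QB D.z'_mem)
  have hzz : D.z * D.z = 1 := by rw [← D.g8, ← pow_add, D.g16]
  -- the parts of the support of `z`
  set P₁ : Finset Ω := M.filter fun x => D.z' • x = x
  set P₂ : Finset Ω := M.filter fun x => (D.z * D.z') • x = x
  set R : Finset Ω := M.filter fun x => D.z' • x ≠ x ∧ (D.z * D.z') • x ≠ x
  have hgM : ∀ x, x ∈ M → D.g • x ∈ M := fun x hx => by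
    rw [Finset.mem_compl] at hx ⊢; rwa [D.smul_pres D.g_mem]
  have hgz : D.g * D.z = D.z * D.g := (D.zB _ D.g_mem).eq.symm
  have hswap₁ : ∀ x : Ω, D.z' • x = x → (D.z * D.z') • D.g • x = D.g • x := fun x hx => by
    rw [← D.gz', mul_smul, mul_smul, inv_smul_smul, hx]
  have hswap₂ : ∀ x : Ω, (D.z * D.z') • x = x → D.z' • D.g • x = D.g • x := fun x hx => by
    have e : D.g * (D.z * D.z') * D.g⁻¹ = D.z' := by
      rw [← mul_assoc, hgz, mul_assoc D.z, mul_assoc D.z, D.gz', ← mul_assoc, hzz, one_mul]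
    rw [← e, mul_smul, mul_smul, inv_smul_smul, hx]
  have hP : P₁.card = P₂.card := by
    refine le_antisymm (Finset.card_le_card_of_injOn (fun x => D.g • x) (fun x hx => ?_)
      (MulAction.injective _).injOn) (Finset.card_le_card_of_injOn (fun x => D.g • x) (fun x hx => ?_)
      (MulAction.injective _).injOn)
    · have hx := Finset.mem_filter.1 (Finset.mem_coe.1 hx)
      exact Finset.mem_coe.2 (Finset.mem_filter.2 ⟨hgM x hx.1, hswap₁ x hx.2⟩)
    · have hx := Finset.mem_filter.1 (Finset.mem_coe.1 hx)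
      exact Finset.mem_coe.2 (Finset.mem_filter.2 ⟨hgM x hx.1, hswap₂ x hx.2⟩)
  have hdisj : Disjoint P₁ P₂ := by
    rw [Finset.disjoint_left]
    intro x h1 h2
    have h1 := Finset.mem_filter.1 h1
    have h2 := Finset.mem_filter.1 h2
    exact Finset.mem_compl.1 h1.1 (mem_fx.2 (by
      have := h2.2; rw [mul_smul, h1.2] at this; exact this))
  -- no point of the support is moved by all three involutions
  have hR : R = ∅ := by
    by_contra hne
    obtain ⟨r, hr⟩ := Finset.nonempty_iff_ne_empty.2 hne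
    have hpow : ∀ i : ℕ, D.g ^ i • r ∈ R := by
      intro i
      induction i with
      | zero => simpa using hr
      | succ i ih =>
        rw [pow_succ', mul_smul]
        obtain ⟨h1, h2, h3⟩ := Finset.mem_filter.1 ih
        refine Finset.mem_filter.2 ⟨hgM _ h1, fun h => h3 ?_, fun h => h2 ?_⟩
        · have e : D.g⁻¹ * D.z' * D.g = D.z * D.z' := by
            have e' : D.g * (D.z * D.z') * D.g⁻¹ = D.z' := by
              rw [← mul_assoc, hgz, mul_assoc D.z, mul_assoc D.z, D.gz', ← mul_assoc, hzz, one_mul]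
            calc D.g⁻¹ * D.z' * D.g = D.g⁻¹ * (D.g * (D.z * D.z') * D.g⁻¹) * D.g := by rw [e']
              _ = _ := by group
          rw [← e, mul_smul, mul_smul, h, inv_smul_smul]
        · have e : D.g⁻¹ * (D.z * D.z') * D.g = D.z' := by rw [← D.gz']; group
          rw [← e, mul_smul, mul_smul, h, inv_smul_smul]
    have hinj : Set.InjOn (fun i : ℕ => D.g ^ i • r) (Finset.range 16 : Finset ℕ) := by
      intro i hi j hj hij
      have hne : ∀ k : ℕ, 0 < k → k < 16 → D.g ^ k • r ≠ r := by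
        intro k h0 h16 h
        have hz : D.z • r = r := by
          rw [← D.g8]
          obtain ⟨s, hs⟩ : ∃ s, k * s % 16 = 8 := by
            interval_cases k
            exacts [⟨8, rfl⟩, ⟨4, rfl⟩, ⟨8, rfl⟩, ⟨2, rfl⟩, ⟨8, rfl⟩, ⟨4, rfl⟩, ⟨8, rfl⟩, ⟨1, rfl⟩,
              ⟨8, rfl⟩, ⟨4, rfl⟩, ⟨8, rfl⟩, ⟨2, rfl⟩, ⟨8, rfl⟩, ⟨4, rfl⟩, ⟨8, rfl⟩]
          have := pow_smul_fix h s
          rw [← pow_mul, ← Nat.div_add_mod (k * s) 16, hs, pow_add, pow_mul, D.g16, one_pow,
            one_mul] at this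
          exact this
        exact Finset.mem_compl.1 (Finset.mem_filter.1 hr).1 (mem_fx.2 hz)
      simp only [Finset.coe_range, Set.mem_Iio] at hi hj
      rcases lt_trichotomy i j with hlt | heq | hlt
      · exfalso
        apply hne (j - i) (by omega) (by omega)
        refine MulAction.injective (D.g ^ i) ?_
        show D.g ^ i • D.g ^ (j - i) • r = D.g ^ i • r
        rw [← mul_smul, ← pow_add, Nat.add_sub_of_le hlt.le]
        exact hij.symm
      · exact heq
      · exfalso
        apply hne (i - j) (by omega) (by omega)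
        refine MulAction.injective (D.g ^ j) ?_
        show D.g ^ j • D.g ^ (i - j) • r = D.g ^ j • r
        rw [← mul_smul, ← pow_add, Nat.add_sub_of_le hlt.le]
        exact hij
    have h16 : 16 ≤ R.card := by
      have := Finset.card_le_card_of_injOn (s := Finset.range 16) (fun i => D.g ^ i • r)
        (fun i _ => Finset.mem_coe.2 (hpow i)) hinj
      simpa using this
    have hRM : R = M := Finset.eq_of_subset_of_card_le (Finset.filter_subset _ _) (hM.le.trans h16)
    have hsub : (fx D.z' : Finset Ω) ⊆ fx D.z := by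
      intro x hx
      by_contra hxz
      have hxR : x ∈ R := hRM ▸ Finset.mem_compl.2 hxz
      exact (Finset.mem_filter.1 hxR).2.1 (mem_fx.1 hx)
    have heq := Finset.eq_of_subset_of_card_le hsub (by rw [hcardz, hcardz'])
    obtain ⟨x₀, hx₀⟩ := Finset.card_pos.1 (show 0 < (fx D.z : Finset Ω).card by omega)
    exact D.fixed_ne h2 hx₀ heq.symm
  have hunion : P₁ ∪ P₂ = M := by
    refine Finset.union_subset (Finset.filter_subset _ _) (Finset.filter_subset _ _) |>.antisymm ?_
    intro x hx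
    by_contra hxu
    rw [Finset.mem_union, not_or] at hxu
    have : x ∈ R := Finset.mem_filter.2 ⟨hx, fun h => hxu.1 (Finset.mem_filter.2 ⟨hx, h⟩),
      fun h => hxu.2 (Finset.mem_filter.2 ⟨hx, h⟩)⟩
    rw [hR] at this
    simp at this
  have hP8 : P₁.card = 8 := by
    have := Finset.card_union_of_disjoint hdisj
    rw [hunion, hM] at this
    omega
  -- the common fixed points
  set W : Finset Ω := fx D.z ∩ fx D.z'
  have hW3 : W.card = 3 := by
    have hsplit : fx D.z' = W ∪ P₁ := by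
      ext x
      simp only [W, P₁, M, Finset.mem_union, Finset.mem_inter, Finset.mem_filter, Finset.mem_compl,
        mem_fx]
      tauto
    have hd : Disjoint W P₁ := by
      rw [Finset.disjoint_left]
      intro x h1 h2
      exact Finset.mem_compl.1 (Finset.mem_filter.1 h2).1 (Finset.mem_inter.1 h1).1
    have := Finset.card_union_of_disjoint hd
    rw [← hsplit, hcardz', hP8] at this
    omega
  have hWB : ∀ b ∈ D.B, ∀ x ∈ W, b • x ∈ W := fun b hb x hx => by
    rw [Finset.mem_inter] at hx ⊢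
    exact ⟨(D.smul_pres hb).2 hx.1, D.z'_pres h2 hb hx.1 hx.2⟩
  have hWc : ∀ x ∈ W, D.c • x ∈ W := fun x hx => by
    rw [Finset.mem_inter] at hx ⊢
    have h1 : D.c • x ∈ fx (D.c * D.z * D.c⁻¹) := by
      rw [fx_conj]; exact Finset.mem_image_of_mem _ hx.1
    have h2 : D.c • x ∈ fx (D.c * D.z' * D.c⁻¹) := by
      rw [fx_conj]; exact Finset.mem_image_of_mem _ hx.2
    rw [D.cz, mem_fx] at h1
    rw [D.cz', mem_fx, mul_smul, h1] at h2
    exact ⟨mem_fx.2 h2, mem_fx.2 h1⟩
  have hWne : ¬ ∀ x ∈ W, D.e • x ∈ W := fun h => by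
    obtain ⟨x₀, hx₀⟩ := Finset.card_pos.1 (show 0 < W.card by omega)
    have hall := D.invariant_univ h2 W hWB h hWc hx₀
    have : W = Finset.univ := Finset.eq_univ_of_forall hall
    rw [this, Finset.card_univ, hn] at hW3
    omega
  have hc3 : orderOf D.c = 3 := by
    haveI : Fact (Nat.Prime 3) := ⟨by norm_num⟩
    refine orderOf_eq_prime D.c3 fun hc => ?_
    have h1 := D.cz
    have h2 := D.cz'
    simp [hc] at h1 h2
    exact D.z_ne h2
  -- `c` has no fixed point in `W`
  have hcW : ∀ x ∈ W, D.c • x ≠ x := by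
    intro x hx hcx
    -- the other two points would also be fixed or the orbit is too large
    have hothers : ∀ y ∈ W, D.c • y = y := by
      intro y hy
      by_contra hcy
      have h3 : ({x, y, D.c • y, D.c • D.c • y} : Finset Ω) ⊆ W := by
        intro u hu
        simp only [Finset.mem_insert, Finset.mem_singleton] at hu
        rcases hu with rfl | rfl | rfl | rfl
        exacts [hx, hy, hWc _ hy, hWc _ (hWc _ hy)]
      have hcc : D.c • D.c • D.c • y = y := by
        rw [← mul_smul, ← mul_smul, ← pow_two, ← pow_succ, D.c3, one_smul]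
      have n1 : x ≠ y := fun e => hcy (e ▸ hcx)
      have n2 : x ≠ D.c • y := fun e => n1 (MulAction.injective D.c (show D.c • x = D.c • y from hcx.trans e))
      have n3 : x ≠ D.c • D.c • y := fun e => n2 (MulAction.injective D.c (show D.c • x = D.c • D.c • y from hcx.trans e))
      have n4 : y ≠ D.c • y := fun e => hcy e.symm
      have n5 : y ≠ D.c • D.c • y := fun e => hcy (by
        have := congrArg (fun u => D.c • u) e
        simp only [hcc] at this
        exact this)
      have n6 : D.c • y ≠ D.c • D.c • y := fun e => n4 (MulAction.injective D.c e)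
      have := Finset.card_le_card h3
      rw [Finset.card_insert_of_notMem (by simp [n1, n2, n3]),
        Finset.card_insert_of_notMem (by simp [n4, n5]), Finset.card_insert_of_notMem (by simp [n6]),
        Finset.card_singleton] at this
      omega
    obtain ⟨y, hy, hyx⟩ : ∃ y ∈ W, y ≠ x := by
      by_contra h
      push Not at h
      have := Finset.card_le_one.2 (fun a ha b hb => (h a ha).trans (h b hb).symm)
      omega
    exact hyx (D.fix_le_one h2 (k := 3) (m := 25600) hc3 (by rw [hn]) (by norm_num) (by rw [hn]; norm_num)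
      (hothers y hy) hcx)
  -- `B` fixes a point `x` of `W`
  obtain ⟨x, hxW, hxB⟩ : ∃ x ∈ W, ∀ b ∈ D.B, b • x = x := by
    letI : MulAction D.B W :=
      { smul := fun b y => ⟨b.1 • y.1, hWB b.1 b.2 y.1 y.2⟩
        one_smul := fun y => Subtype.ext (one_smul _ y.1)
        mul_smul := fun u v y => Subtype.ext (mul_smul u.1 v.1 y.1) }
    haveI : Fact (Nat.Prime 2) := ⟨Nat.prime_two⟩
    obtain ⟨y, hy⟩ := (IsPGroup.of_card D.cardB).nonempty_fixed_point_of_prime_not_dvd_card W (by
      rw [Nat.card_eq_fintype_card, Fintype.card_coe, hW3]; norm_num)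
    exact ⟨y.1, y.2, fun b hb => congrArg Subtype.val (hy ⟨b, hb⟩)⟩
  -- points fixed by `Q` stay in `W`
  have hQW : ∀ y ∈ W, (∀ q ∈ D.Q, q • y = y) → D.e • y ∈ W ∧ ∀ q ∈ D.Q, q • D.e • y = D.e • y := by
    intro y hy hyQ
    have hq : ∀ q ∈ D.Q, q • D.e • y = D.e • y := fun q hq => by
      have h4 : (D.e ^ 4) * q * (D.e ^ 4)⁻¹ ∈ D.Q := by
        have hiter : ∀ i : ℕ, D.e ^ i * q * (D.e ^ i)⁻¹ ∈ D.Q := by
          intro i
          induction i with
          | zero => simpa using hq
          | succ i ih =>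
            have := D.eQ _ ih
            rw [pow_succ', _root_.mul_inv_rev]
            simpa [mul_assoc] using this
        exact hiter 4
      have h4' : D.e ^ 4 = D.e⁻¹ := eq_inv_of_mul_eq_one_left (by rw [← pow_succ, D.e5])
      rw [h4', inv_inv] at h4
      have := hyQ _ h4
      rwa [mul_smul, mul_smul, inv_smul_eq_iff] at this
    exact ⟨Finset.mem_inter.2 ⟨mem_fx.2 (hq _ D.z_mem), mem_fx.2 (hq _ D.z'_mem)⟩, hq⟩
  -- `W = {x, c x, c² x}`
  set p := D.c • D.c • x with hp
  set q := D.c • x with hq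
  have hcq : D.c • q = p := rfl
  have hcp : D.c • p = x := by rw [hp, ← mul_smul, ← mul_smul, ← pow_two, ← pow_succ, D.c3, one_smul]
  have hqW : q ∈ W := hWc _ hxW
  have hpW : p ∈ W := hWc _ hqW
  have nqx : q ≠ x := hcW x hxW
  have npx : p ≠ x := fun e => hcW p hpW (hcp.trans e.symm)
  have npq : p ≠ q := hcW q hqW
  have hWmem : ∀ y ∈ W, y = x ∨ y = q ∨ y = p := by
    intro y hy
    have : ({x, q, p} : Finset Ω) = W := Finset.eq_of_subset_of_card_le (by
      intro u hu
      simp only [Finset.mem_insert, Finset.mem_singleton] at hu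
      rcases hu with rfl | rfl | rfl
      exacts [hxW, hqW, hpW]) (by
      rw [hW3, Finset.card_insert_of_notMem (by simp [nqx.symm, npx.symm]),
        Finset.card_insert_of_notMem (by simp [npq.symm]), Finset.card_singleton])
    rw [← this] at hy
    simpa using hy
  -- some element of `Q` exchanges `p` and `q`
  obtain ⟨q₀, hq₀, hpq⟩ : ∃ q₀ ∈ D.Q, q₀ • p = q := by
    by_contra hno
    push Not at hno
    refine hWne fun y hy => (hQW y hy fun b hb => ?_).1
    have hb' := D.QB hb
    rcases hWmem y hy with rfl | rfl | rfl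
    · exact hxB b hb'
    · rcases hWmem _ (hWB b hb' _ hqW) with e | e | e
      · exact absurd (MulAction.injective b (e.trans (hxB b hb').symm)) nqx
      · exact e
      · exfalso
        refine hno b⁻¹ (inv_mem hb) ?_
        rw [inv_smul_eq_iff]; exact e.symm
    · rcases hWmem _ (hWB b hb' _ hpW) with e | e | e
      · exact absurd (MulAction.injective b (e.trans (hxB b hb').symm)) npx
      · exact absurd e (hno b hb)
      · exact e
  have hq₀B := D.QB hq₀
  have hqp : q₀ • q = p := by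
    rcases hWmem _ (hWB q₀ hq₀B _ hqW) with e | e | e
    · exact absurd (MulAction.injective q₀ (e.trans (hxB q₀ hq₀B).symm)) nqx
    · exact absurd (MulAction.injective q₀ (hpq.trans e.symm)) npq
    · exact e
  -- `e` fixes `x`
  have hex : D.e • x = x := by
    obtain ⟨h1, h2'⟩ := hQW x hxW fun b hb => hxB b (D.QB hb)
    rcases hWmem _ h1 with e | e | e
    · exact e
    · have h := h2' q₀ hq₀; rw [e, hqp] at h; exact absurd h npq
    · have h := h2' q₀ hq₀; rw [e, hpq] at h; exact absurd h (Ne.symm npq)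
  -- a conjugate of `e` by an element of `B` moves `p`, another moves `q`
  obtain ⟨e₁, he₁, hep⟩ : ∃ e₁, (e₁ = D.e ∨ e₁ = q₀ * D.e * q₀⁻¹) ∧ e₁ • p ≠ p := by
    by_contra hno
    push Not at hno
    apply hWne
    intro y hy
    rcases hWmem y hy with rfl | rfl | rfl
    · rwa [hex]
    · have h := hno _ (Or.inr rfl)
      have hinv : q₀⁻¹ • p = q := by rw [inv_smul_eq_iff, hqp]
      rw [mul_smul, mul_smul, hinv, smul_eq_iff_eq_inv_smul, hinv] at h
      rw [h]; exact hqW
    · rw [hno _ (Or.inl rfl)]; exact hpW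
  set e₂ := q₀ * e₁ * q₀⁻¹ with he₂
  have heq : e₂ • q ≠ q := by
    rw [he₂, mul_smul, mul_smul, show q₀⁻¹ • q = p by rw [inv_smul_eq_iff, hpq]]
    intro h
    exact hep (MulAction.injective q₀ (h.trans hpq.symm))
  -- supports
  have hfe : ∀ y, y ∈ M → D.e • y = y := fun y hy =>
    D.e_fix_moved h2 hM fun h => Finset.mem_compl.1 hy (mem_fx.2 h)
  have hconj : ∀ (b u : T), b ∈ D.B → (∀ y ∈ M, u • y = y) → u • x = x →
      (∀ y ∈ M, (b * u * b⁻¹) • y = y) ∧ (b * u * b⁻¹) • x = x := by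
    intro b u hb hu hux
    refine ⟨fun y hy => ?_, ?_⟩
    · have : b⁻¹ • y ∈ M := by
        rw [Finset.mem_compl] at hy ⊢; rwa [D.smul_pres (inv_mem hb)]
      rw [mul_smul, mul_smul, hu _ this, smul_inv_smul]
    · rw [mul_smul, mul_smul, hxB _ (inv_mem hb), hux, hxB _ hb]
  have h₁ : (∀ y ∈ M, e₁ • y = y) ∧ e₁ • x = x := by
    rcases he₁ with rfl | rfl
    exacts [⟨hfe, hex⟩, hconj q₀ D.e hq₀B hfe hex]
  have h₂ := hconj q₀ e₁ hq₀B h₁.1 h₁.2
  rw [← he₂] at h₂
  set e₃ := D.c * e₂ * D.c⁻¹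
  have hcinvp : D.c⁻¹ • p = q := by rw [inv_smul_eq_iff, hcq]
  have he₃p : e₃ • p ≠ p := by
    rw [mul_smul, mul_smul, hcinvp]
    intro h
    exact heq (MulAction.injective D.c (h.trans hcq.symm))
  have hmeet : ∀ y : Ω, e₁ • y ≠ y → e₃ • y ≠ y → y = p := by
    intro y h1 h3
    have hyz : y ∈ fx D.z := by
      by_contra h; exact h1 (h₁.1 y (Finset.mem_compl.2 h))
    have h3' : e₂ • D.c⁻¹ • y ≠ D.c⁻¹ • y := fun h => h3 (by
      rw [mul_smul, mul_smul, h, smul_inv_smul])
    have hyz' : y ∈ fx D.z' := by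
      have : D.c⁻¹ • y ∈ fx D.z := by
        by_contra h; exact h3' (h₂.1 _ (Finset.mem_compl.2 h))
      have h := Finset.mem_image_of_mem (fun u => D.c • u) this
      rw [← fx_conj, D.cz] at h
      simpa using h
    rcases hWmem y (Finset.mem_inter.2 ⟨hyz, hyz'⟩) with rfl | rfl | rfl
    · exact absurd h₁.2 h1
    · refine absurd h₂.2 ?_
      rwa [show D.c⁻¹ • q = x by rw [inv_smul_eq_iff]] at h3'
    · rfl
  let φ := MulAction.toPermHom T Ω
  have h3c := isThreeCycle_commutator (φ e₁) (φ e₃) (p := p) hep he₃p hmeet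
  have hprim : IsPreprimitive φ.range Ω := by
    refine isPreprimitive_of_is_two_pretransitive (is_two_pretransitive_iff.2 fun {a b u v} hab huv => ?_)
    obtain ⟨t, h1, h2⟩ := (is_two_pretransitive_iff.1 h2) hab huv
    exact ⟨⟨φ t, t, rfl⟩, h1, h2⟩
  have hle := Perm.alternatingGroup_le_of_isPreprimitive_of_isThreeCycle_mem hprim h3c
    (mul_mem (mul_mem (mul_mem ⟨_, rfl⟩ ⟨_, rfl⟩) (inv_mem ⟨_, rfl⟩)) (inv_mem ⟨_, rfl⟩))
  have hcard := Subgroup.card_dvd_of_le hle
  have hinj : Function.Injective φ := MulAction.toPerm_injective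
  rw [← Nat.card_congr (MonoidHom.ofInjective hinj).toEquiv, D.order] at hcard
  have h7 : 7 ∣ Nat.card (alternatingGroup Ω) := by
    haveI : Nontrivial Ω := Fintype.one_lt_card_iff_nontrivial.1 (by omega)
    have h := two_mul_card_alternatingGroup (α := Ω)
    rw [Fintype.card_perm, hn] at h
    rw [Nat.card_eq_fintype_card]
    have : 7 ∣ 2 * Fintype.card (alternatingGroup Ω) := by
      rw [h]; exact Nat.dvd_factorial (by norm_num) (by norm_num)
    exact (Nat.Coprime.dvd_of_dvd_mul_left (by norm_num) this)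
  have := h7.trans hcard
  norm_num at this

theorem Data.no_forty (D : Data T) (hn : Fintype.card Ω = 40) : False := by
  classical
  obtain ⟨q, hq⟩ := D.sixteen_dvd (Ω := Ω)
  have hle := Finset.card_le_univ ((fx D.z)ᶜ : Finset Ω)
  have hne : ((fx D.z)ᶜ : Finset Ω).card ≠ 0 := fun h0 => D.z_ne (eq_one_of_fix fun y : Ω =>
    mem_fx.1 (by_contra fun hy =>
      (Finset.eq_empty_iff_forall_notMem.1 (Finset.card_eq_zero.1 h0)) y (Finset.mem_compl.2 hy)))
  have hcompl := Finset.card_compl (fx D.z : Finset Ω)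
  rw [hn] at hcompl
  have hfle := Finset.card_le_univ (fx D.z : Finset Ω)
  rw [hn] at hfle hle
  set F : Finset Ω := fx D.e
  haveI : Fact (Nat.Prime 5) := ⟨by norm_num⟩
  have hFmod : F.card % 5 = 0 := by
    let σ := MulAction.toPermHom T Ω D.e
    have hσ : σ ^ 5 ^ 1 = 1 := by rw [pow_one, ← map_pow, D.e5, map_one]
    have h := Perm.card_compl_support_modEq hσ
    rw [hn, show σ.supportᶜ = F by ext y; simp [σ, F, fx, Perm.mem_support]] at h
    exact h
  have hFuniv : F.card < 40 := by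
    rw [← hn]
    obtain ⟨y, hy⟩ : ∃ y : Ω, D.e • y ≠ y := by
      by_contra h
      push Not at h
      exact D.e_ne (eq_one_of_fix h)
    exact Finset.card_lt_univ_of_notMem (x := y) fun h => hy (mem_fx.1 h)
  -- the normaliser of `⟨e⟩` is doubly transitive on its fixed points
  let E := Subgroup.zpowers D.e
  let N := Subgroup.normalizer (E : Set T)
  have hEfix : ∀ u ∈ E, ∀ y ∈ F, u • y = y := fun u hu y hy => by
    have : E ≤ stabilizer T y := Subgroup.zpowers_le.2 (mem_fx.1 hy)
    exact this hu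
  have hNF : ∀ u ∈ N, ∀ y ∈ F, u • y ∈ F := fun u hu y hy => by
    have h : u⁻¹ * D.e * u ∈ E := by
      have := (Subgroup.mem_normalizer_iff.1 (inv_mem hu) D.e).1 (Subgroup.mem_zpowers _)
      rwa [inv_inv] at this
    have := hEfix _ h y hy
    rw [mul_smul, mul_smul, inv_smul_eq_iff] at this
    exact mem_fx.2 this
  have hE5 : Nat.card E = 5 := by rw [Nat.card_zpowers, D.orderOf_e h2]
  have h2F : ∀ a ∈ F, ∀ b ∈ F, a ≠ b → ∀ u ∈ F, ∀ v ∈ F, u ≠ v →
      ∃ m ∈ N, m • a = u ∧ m • b = v := by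
    intro a ha b hb hab u hu v hv huv
    obtain ⟨t, hta, htb⟩ := (is_two_pretransitive_iff.1 h2) hab huv
    set S := stabilizer T a ⊓ stabilizer T b with hS
    have hcard : Nat.card S = 11520 := by
      have h := card_pair (T := T) h2 hab
      rw [hn, D.order, ← hS] at h
      omega
    have hE : E ≤ S := fun w hw => ⟨hEfix w hw a ha, hEfix w hw b hb⟩
    have hE' : E.map (MulAut.conj t⁻¹).toMonoidHom ≤ S := by
      rintro _ ⟨w, hw, rfl⟩
      simp only [MulEquiv.coe_toMonoidHom, MulAut.conj_apply, inv_inv]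
      refine ⟨?_, ?_⟩
      · show (t⁻¹ * w * t) • a = a
        rw [mul_smul, mul_smul, hta, hEfix w hw u hu, inv_smul_eq_iff, hta]
      · show (t⁻¹ * w * t) • b = b
        rw [mul_smul, mul_smul, htb, hEfix w hw v hv, inv_smul_eq_iff, htb]
    have hfac : (Nat.card S).factorization 5 = 1 := by
      rw [hcard, show (11520 : ℕ) = 5 * 2304 by norm_num, Nat.factorization_mul (by norm_num) (by norm_num),
        Finsupp.add_apply, Nat.prime_five.factorization_self,
        Nat.factorization_eq_zero_of_not_dvd (by norm_num : ¬ 5 ∣ 2304)]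
    have mkSyl : ∀ (H : Subgroup T), H ≤ S → Nat.card H = 5 → ∃ P : Sylow 5 S, (P : Subgroup S) = H.subgroupOf S := by
      intro H hH hc
      refine ⟨Sylow.ofCard (H.subgroupOf S) ?_, rfl⟩
      rw [hfac, pow_one, Nat.card_congr (Subgroup.subgroupOfEquivOfLe hH).toEquiv, hc]
    have hE'5 : Nat.card (E.map (MulAut.conj t⁻¹).toMonoidHom) = 5 := by
      rw [← hE5]
      exact (Nat.card_congr (E.equivMapOfInjective _ (MulEquiv.injective _)).toEquiv).symm
    obtain ⟨P, hP⟩ := mkSyl E hE hE5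
    obtain ⟨P', hP'⟩ := mkSyl _ hE' hE'5
    obtain ⟨s, hs⟩ := exists_smul_eq S P P'
    have hs' : E.map (MulAut.conj (s : T)).toMonoidHom = E.map (MulAut.conj t⁻¹).toMonoidHom := by
      have h := congrArg (fun R : Sylow 5 S => ((R : Subgroup S)).map S.subtype) hs
      simp only [Sylow.coe_subgroup_smul, hP, hP'] at h
      rw [Subgroup.map_subgroupOf_eq_of_le hE'] at h
      rw [← h]
      ext w
      simp only [Subgroup.mem_map, Subgroup.mem_smul_pointwise_iff_exists, Subgroup.mem_subgroupOf]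
      constructor
      · rintro ⟨r, hr, rfl⟩
        exact ⟨_, ⟨⟨r, hE hr⟩, hr, rfl⟩, by simp⟩
      · rintro ⟨_, ⟨r, hr, rfl⟩, rfl⟩
        exact ⟨r.1, hr, by simp⟩
    refine ⟨t * s, ?_, ?_, ?_⟩
    · rw [Subgroup.mem_normalizer_iff]
      intro w
      have key : E.map (MulAut.conj (t * s : T)).toMonoidHom = E := by
        have hm : (MulAut.conj (t * s : T)).toMonoidHom =
            (MulAut.conj t).toMonoidHom.comp (MulAut.conj (s : T)).toMonoidHom := by
          ext r; simp [mul_assoc]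
        rw [hm, ← Subgroup.map_map, hs', Subgroup.map_map]
        convert Subgroup.map_id E using 2
        ext r; simp [mul_assoc]
      constructor
      · intro hw
        rw [← key]
        exact ⟨w, hw, rfl⟩
      · intro hw
        rw [← key] at hw
        obtain ⟨r, hr, hr'⟩ := hw
        have : r = w := (MulAut.conj (t * s : T)).injective hr'
        rwa [← this]
    · rw [mul_smul, show (s : T) • a = a from s.2.1, hta]
    · rw [mul_smul, show (s : T) • b = b from s.2.2, htb]
  have hdiv : 2 ≤ F.card → F.card * (F.card - 1) * 5 ∣ 17971200 := by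
    intro hF2
    letI : MulAction N F :=
      { smul := fun u y => ⟨u.1 • y.1, hNF u.1 u.2 y.1 y.2⟩
        one_smul := fun y => Subtype.ext (one_smul _ y.1)
        mul_smul := fun u v y => Subtype.ext (mul_smul u.1 v.1 y.1) }
    haveI hN2 : IsMultiplyPretransitive N F 2 := is_two_pretransitive_iff.2 fun {a b u v} hab huv => by
      obtain ⟨m, hm, h1, h2⟩ := h2F a.1 a.2 b.1 b.2 (fun h => hab (Subtype.ext h)) u.1 u.2 v.1 v.2
        (fun h => huv (Subtype.ext h))
      exact ⟨⟨m, hm⟩, Subtype.ext h1, Subtype.ext h2⟩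
    obtain ⟨a, ha, b, hb, hab⟩ := Finset.one_lt_card.1 hF2
    have hab' : (⟨a, ha⟩ : F) ≠ ⟨b, hb⟩ := fun h => hab (congrArg Subtype.val h)
    have h := card_pair (T := N) hN2 hab'
    have h5 : 5 ∣ Nat.card ↥(stabilizer N (⟨a, ha⟩ : F) ⊓ stabilizer N (⟨b, hb⟩ : F)) := by
      have he : D.e ∈ N := Subgroup.le_normalizer (Subgroup.mem_zpowers _)
      have := Subgroup.orderOf_dvd_natCard (stabilizer N (⟨a, ha⟩ : F) ⊓ stabilizer N (⟨b, hb⟩ : F))
        (x := ⟨D.e, he⟩) ⟨Subtype.ext (mem_fx.1 ha), Subtype.ext (mem_fx.1 hb)⟩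
      rwa [Subgroup.orderOf_mk, D.orderOf_e h2] at this
    rw [Fintype.card_coe] at h
    rw [← D.order]
    refine dvd_trans ?_ (Subgroup.card_subgroup_dvd_card N)
    rw [← h]
    exact mul_dvd_mul_left _ h5
  have hten : ∀ m < 40, 8 ≤ m → m % 5 = 0 → m * (m - 1) * 5 ∣ 17971200 → m = 10 := by decide +kernel
  rcases (show q = 1 ∨ q = 2 by omega) with rfl | rfl
  · -- 24 fixed points of `z`
    have hM : ((fx D.z)ᶜ : Finset Ω).card = 16 := by omega
    have hsub : ((fx D.z)ᶜ : Finset Ω) ⊆ F := fun y hy =>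
      mem_fx.2 (D.e_fix_moved h2 hM fun h => Finset.mem_compl.1 hy (mem_fx.2 h))
    have := Finset.card_le_card hsub
    have := hten _ hFuniv (by omega) hFmod (hdiv (by omega))
    omega
  · -- 8 fixed points of `z`
    have hM : (fx D.z : Finset Ω).card = 8 := by omega
    have horb : ∀ y : Ω, 8 ≤ 4 * Nat.card (orbit D.Q y) := by
      intro y
      haveI := isPretransitive_of_is_two_pretransitive (h2 := h2)
      have hi := index_stabilizer_of_transitive T y
      have hT := Subgroup.index_mul_card (stabilizer T y)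
      rw [hi, Nat.card_eq_fintype_card, hn, D.order] at hT
      have hst : Nat.card (stabilizer T y) = 449280 := by omega
      have hQy : Nat.card ↥(D.Q ⊓ stabilizer T y) ≤ 256 := by
        have h1 : Nat.card ↥(D.Q ⊓ stabilizer T y) ∣ 449280 :=
          hst ▸ Subgroup.card_dvd_of_le inf_le_right
        have h2 : Nat.card ↥(D.Q ⊓ stabilizer T y) ∣ 2 ^ 11 :=
          D.cardB ▸ Subgroup.card_dvd_of_le (inf_le_left.trans D.QB)
        exact (Nat.le_of_dvd (by norm_num) (Nat.dvd_gcd h1 h2)).trans (by decide +kernel)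
      have e : stabilizer D.Q y = (D.Q ⊓ stabilizer T y).subgroupOf D.Q := by
        ext w; simp [Subgroup.mem_subgroupOf]; rfl
      have hc := Subgroup.index_mul_card (stabilizer D.Q y)
      rw [index_stabilizer, ← Nat.card_coe_set_eq, e,
        Nat.card_congr (Subgroup.subgroupOfEquivOfLe inf_le_left).toEquiv] at hc
      have := D.cardQ
      rw [D.cardB] at this
      nlinarith
    have hsub : (fx D.z : Finset Ω) ⊆ F := fun y hy => mem_fx.2
      (fix_of_normalizes D.Q D.isPGroup D.e D.z D.e5 D.eQ D.ze D.z_mem (fx D.z)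
        (fun u hu w hw => (D.smul_pres (D.QB hu)).2 hw) (fun w hw => D.e_pres.2 hw)
        (fun w _ => hM.le.trans (horb w)) (Or.inl hM.le) hy)
    have h8 := Finset.card_le_card hsub
    have hF10 := hten _ hFuniv (by omega) hFmod (hdiv (by omega))
    -- `z` induces a transposition
    have hzN : D.z ∈ N := by
      rw [Subgroup.mem_normalizer_iff]
      have hc : ∀ w ∈ E, D.z * w = w * D.z := fun w hw => by
        obtain ⟨i, rfl⟩ := Subgroup.mem_zpowers_iff.1 hw
        exact (D.ze.zpow_right i).eq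
      intro w
      constructor
      · intro hw; rw [hc w hw, mul_inv_cancel_right]; exact hw
      · intro hw
        have h := hc _ hw
        have : D.z * w * D.z⁻¹ = w := by
          have := congrArg (fun r => D.z⁻¹ * r) h
          simpa [mul_assoc] using this
        rwa [this] at hw
    letI : MulAction N F :=
      { smul := fun u y => ⟨u.1 • y.1, hNF u.1 u.2 y.1 y.2⟩
        one_smul := fun y => Subtype.ext (one_smul _ y.1)
        mul_smul := fun u v y => Subtype.ext (mul_smul u.1 v.1 y.1) }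
    let φ := MulAction.toPermHom N F
    have hsupp : (φ ⟨D.z, hzN⟩).support.card = 2 := by
      have e : (φ ⟨D.z, hzN⟩).support.map (Function.Embedding.subtype _) = F \ fx D.z := by
        ext y
        simp only [Finset.mem_map, Perm.mem_support, Function.Embedding.subtype_apply, Finset.mem_sdiff,
          mem_fx]
        constructor
        · rintro ⟨u, hu, rfl⟩
          exact ⟨u.2, fun h => hu (Subtype.ext h)⟩
        · rintro ⟨h1, h2⟩
          exact ⟨⟨y, h1⟩, fun h => h2 (congrArg Subtype.val h), rfl⟩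
      rw [← Finset.card_map, e, Finset.card_sdiff_of_subset hsub, hF10, hM]
    have hswap : (φ ⟨D.z, hzN⟩).IsSwap := Perm.card_support_eq_two.1 hsupp
    have hprim : IsPreprimitive φ.range F := by
      refine isPreprimitive_of_is_two_pretransitive (is_two_pretransitive_iff.2 fun {a b u v} hab huv => ?_)
      obtain ⟨m, hm, h1, h2⟩ := h2F a.1 a.2 b.1 b.2 (fun h => hab (Subtype.ext h)) u.1 u.2 v.1 v.2
        (fun h => huv (Subtype.ext h))
      exact ⟨⟨φ ⟨m, hm⟩, ⟨m, hm⟩, rfl⟩, Subtype.ext h1, Subtype.ext h2⟩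
    have htop := Perm.subgroup_eq_top_of_isPreprimitive_of_isSwap_mem hprim _ hswap ⟨_, rfl⟩
    have hdvd := (Subgroup.card_range_dvd φ).trans (Subgroup.card_subgroup_dvd_card N)
    rw [htop, Subgroup.card_top, Nat.card_eq_fintype_card, Fintype.card_perm, Fintype.card_coe,
      hF10, D.order] at hdvd
    revert hdvd
    decide +kernel

theorem Data.no_sixtyfive (D : Data T) (hn : Fintype.card Ω = 65) : False := by
  classical
  haveI : Fact (Nat.Prime 2) := ⟨Nat.prime_two⟩
  obtain ⟨x, hxB⟩ : ∃ x : Ω, ∀ b ∈ D.B, b • x = x := by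
    obtain ⟨y, hy⟩ := (IsPGroup.of_card D.cardB).nonempty_fixed_point_of_prime_not_dvd_card Ω (by
      rw [Nat.card_eq_fintype_card, hn]; norm_num)
    exact ⟨y, fun b hb => hy ⟨b, hb⟩⟩
  have hz : D.z ∈ D.B := D.QB D.z_mem
  have horb : ∀ y : Ω, y ≠ x → ∀ w : Ω, w ≠ x → ∃ b ∈ D.B, b • y = w := by
    intro y hy w hw
    have h := card_pair (T := T) h2 hy.symm
    rw [hn, D.order] at h
    have hS : Nat.card ↥(stabilizer T x ⊓ stabilizer T y) = 4320 := by omega
    have e : stabilizer D.B y = (D.B ⊓ stabilizer T y).subgroupOf D.B := by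
      ext b; simp [Subgroup.mem_subgroupOf]; rfl
    have hc := Subgroup.index_mul_card (stabilizer D.B y)
    rw [index_stabilizer, ← Nat.card_coe_set_eq, e,
      Nat.card_congr (Subgroup.subgroupOfEquivOfLe inf_le_left).toEquiv, D.cardB] at hc
    have hle : Nat.card ↥(D.B ⊓ stabilizer T y) ≤ 32 := by
      have h1 : Nat.card ↥(D.B ⊓ stabilizer T y) ∣ 4320 :=
        hS ▸ Subgroup.card_dvd_of_le (show D.B ⊓ stabilizer T y ≤ stabilizer T x ⊓ stabilizer T y from
          le_inf (fun b hb => hxB b hb.1) inf_le_right)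
      have h2 : Nat.card ↥(D.B ⊓ stabilizer T y) ∣ 2 ^ 11 :=
        D.cardB ▸ Subgroup.card_dvd_of_le inf_le_left
      exact (Nat.le_of_dvd (by norm_num) (Nat.dvd_gcd h1 h2)).trans (by decide +kernel)
    set O : Finset Ω := Finset.univ.filter fun u => u ∈ orbit D.B y
    have hO : O.card = Nat.card (orbit D.B y) := by
      rw [Nat.card_eq_fintype_card, ← Set.toFinset_card]
      exact congrArg Finset.card (by ext u; simp [O])
    have hsub : O ⊆ Finset.univ.erase x := by
      intro u hu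
      simp only [O, Finset.mem_filter, Finset.mem_univ, true_and, mem_orbit_iff] at hu
      obtain ⟨b, rfl⟩ := hu
      refine Finset.mem_erase.2 ⟨fun e => hy ?_, Finset.mem_univ _⟩
      exact MulAction.injective (b : T) (e.trans (hxB _ b.2).symm)
    have h64 : (Finset.univ.erase x : Finset Ω).card ≤ O.card := by
      rw [Finset.card_erase_of_mem (Finset.mem_univ x), Finset.card_univ, hn, hO]
      nlinarith
    have := Finset.eq_of_subset_of_card_le hsub h64
    have hwO : w ∈ O := by rw [this]; simp [hw]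
    simp only [O, Finset.mem_filter, Finset.mem_univ, true_and, mem_orbit_iff] at hwO
    obtain ⟨b, hb⟩ := hwO
    exact ⟨b.1, b.2, hb⟩
  have hfix : (fx D.z : Finset Ω) = {x} := by
    refine Finset.eq_singleton_iff_unique_mem.2 ⟨mem_fx.2 (hxB _ hz), fun y hy => by_contra fun hyx => ?_⟩
    refine D.z_ne (eq_one_of_fix fun w : Ω => ?_)
    by_cases hw : w = x
    · rw [hw, hxB _ hz]
    · obtain ⟨b, hb, rfl⟩ := horb y hyx w hw
      exact mem_fx.1 ((D.smul_pres hb).2 hy)
  have h1 : (fx D.z : Finset Ω) = fx D.z' := by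
    rw [hfix]
    refine Finset.eq_of_subset_of_card_le ?_ ?_
    · rw [Finset.singleton_subset_iff]; exact mem_fx.2 (hxB _ (D.QB D.z'_mem))
    · rw [← D.cz, card_fx_conj, hfix]
  exact D.fixed_ne h2 (x₀ := x) (by rw [hfix]; simp) h1

theorem Data.no_sixteen (D : Data T) (hn : Fintype.card Ω = 16) : False := by
  classical
  obtain ⟨q, hq⟩ := D.sixteen_dvd (Ω := Ω)
  have hle := Finset.card_le_univ ((fx D.z)ᶜ : Finset Ω)
  have hne : ((fx D.z)ᶜ : Finset Ω).card ≠ 0 := fun h0 => D.z_ne (eq_one_of_fix fun y : Ω =>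
    mem_fx.1 (by_contra fun hy =>
      (Finset.eq_empty_iff_forall_notMem.1 (Finset.card_eq_zero.1 h0)) y (Finset.mem_compl.2 hy)))
  have huniv : ∀ y : Ω, D.z • y ≠ y := by
    intro y hy
    have h := Finset.card_lt_univ_of_notMem (s := ((fx D.z)ᶜ : Finset Ω)) (x := y) (by simp [mem_fx, hy])
    omega
  set σ := MulAction.toPermHom T Ω D.g with hσdef
  have hpow : ∀ (i : ℕ) (y : Ω), (σ ^ i) y = D.g ^ i • y := fun i y => by
    rw [hσdef, ← map_pow]; rfl
  have hsupp : σ.support = Finset.univ := by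
    refine Finset.eq_univ_of_forall fun y => Perm.mem_support.2 fun h => huniv y ?_
    rw [← D.g8]; exact pow_smul_fix h 8
  have hcyc : σ.IsCycle := by
    obtain ⟨y₀⟩ : Nonempty Ω := Fintype.card_pos_iff.1 (by omega)
    refine ⟨y₀, Perm.mem_support.1 (by rw [hsupp]; simp), fun w _ => ?_⟩
    have hinj : Set.InjOn (fun i : ℕ => D.g ^ i • y₀) (Finset.range 16 : Finset ℕ) := by
      intro i hi j hj hij
      simp only [Finset.coe_range, Set.mem_Iio] at hi hj
      have hne : ∀ k : ℕ, 0 < k → k < 16 → D.g ^ k • y₀ ≠ y₀ := by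
        intro k h0 h16 h
        apply huniv y₀
        rw [← D.g8]
        obtain ⟨s, hs⟩ : ∃ s, k * s % 16 = 8 := by
          interval_cases k
          exacts [⟨8, rfl⟩, ⟨4, rfl⟩, ⟨8, rfl⟩, ⟨2, rfl⟩, ⟨8, rfl⟩, ⟨4, rfl⟩, ⟨8, rfl⟩, ⟨1, rfl⟩,
            ⟨8, rfl⟩, ⟨4, rfl⟩, ⟨8, rfl⟩, ⟨2, rfl⟩, ⟨8, rfl⟩, ⟨4, rfl⟩, ⟨8, rfl⟩]
        have := pow_smul_fix h s
        rw [← pow_mul, ← Nat.div_add_mod (k * s) 16, hs, pow_add, pow_mul, D.g16, one_pow,
          one_mul] at this
        exact this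
      rcases lt_trichotomy i j with hlt | heq | hlt
      · exfalso
        apply hne (j - i) (by omega) (by omega)
        refine MulAction.injective (D.g ^ i) ?_
        show D.g ^ i • D.g ^ (j - i) • y₀ = D.g ^ i • y₀
        rw [← mul_smul, ← pow_add, Nat.add_sub_of_le hlt.le]
        exact hij.symm
      · exact heq
      · exfalso
        apply hne (i - j) (by omega) (by omega)
        refine MulAction.injective (D.g ^ j) ?_
        show D.g ^ j • D.g ^ (i - j) • y₀ = D.g ^ j • y₀
        rw [← mul_smul, ← pow_add, Nat.add_sub_of_le hlt.le]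
        exact hij
    have himg : (Finset.range 16).image (fun i : ℕ => D.g ^ i • y₀) = Finset.univ :=
      Finset.eq_univ_of_card _ (by rw [Finset.card_image_of_injOn hinj, Finset.card_range, hn])
    have hw : w ∈ (Finset.range 16).image (fun i : ℕ => D.g ^ i • y₀) := by rw [himg]; simp
    obtain ⟨i, -, hi⟩ := Finset.mem_image.1 hw
    exact ⟨i, by rw [zpow_natCast, hpow, hi]⟩
  have hsign := hcyc.sign
  rw [hsupp, Finset.card_univ, hn] at hsign
  have h1 : Perm.sign σ = 1 := by
    have := D.perfect ((Perm.sign : Perm Ω →* ℤˣ).comp (MulAction.toPermHom T Ω))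
    exact DFunLike.congr_fun this D.g
  rw [h1] at hsign
  revert hsign
  decide

/-- The theorem. -/
theorem Data.not_two_transitive (D : Data T) (hΩ : 3 ≤ Fintype.card Ω) : False := by
  classical
  obtain ⟨x, y, hxy⟩ := Fintype.exists_pair_of_one_lt_card (show 1 < Fintype.card Ω by omega)
  have hdiv : Fintype.card Ω * (Fintype.card Ω - 1) ∣ 17971200 :=
    ⟨_, by rw [← D.order, card_pair (T := T) h2 hxy]⟩
  have hfact : 17971200 ∣ (Fintype.card Ω).factorial := by
    have h := Subgroup.card_dvd_of_injective (MulAction.toPermHom T Ω) MulAction.toPerm_injective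
    rwa [D.order, Nat.card_eq_fintype_card, Fintype.card_perm] at h
  have hlt : Fintype.card Ω < 4241 := by
    by_contra h
    have h1 := Nat.le_of_dvd (by norm_num) hdiv
    have h2 : 4241 * 4240 ≤ Fintype.card Ω * (Fintype.card Ω - 1) := Nat.mul_le_mul (by omega) (by omega)
    omega
  have hsmall : ∀ m < 14, ¬ 17971200 ∣ Nat.factorial m := by decide +kernel
  have hblocks : ((List.range 67).all fun a => (List.range 64).all fun b =>
      Nat.blt (64 * a + b) 14 || !Nat.beq (17971200 % ((64 * a + b) * (64 * a + b - 1))) 0 ||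
        [16, 25, 26, 27, 40, 65].any (Nat.beq (64 * a + b))) = true := by decide +kernel
  have hlist : ∀ m < 4241, 14 ≤ m → m * (m - 1) ∣ 17971200 →
      m = 16 ∨ m = 25 ∨ m = 26 ∨ m = 27 ∨ m = 40 ∨ m = 65 := by
    intro m hm h14 hd
    have h := List.all_eq_true.1 (List.all_eq_true.1 hblocks (m / 64) (List.mem_range.2 (by omega)))
      (m % 64) (List.mem_range.2 (by omega))
    simp only [Nat.div_add_mod] at h
    rw [Nat.mod_eq_zero_of_dvd hd] at h
    have hb : Nat.blt m 14 = false := Bool.eq_false_iff.2 fun hb => by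
      have := Nat.le_of_ble_eq_true hb; omega
    simpa [hb, or_assoc] using h
  have hge : 14 ≤ Fintype.card Ω := by
    by_contra h
    exact hsmall _ (by omega) hfact
  have hfew : ∀ m : ℕ, Fintype.card Ω * (Fintype.card Ω - 1) * m = 17971200 → ¬ 5 ∣ m →
      Fintype.card Ω < 32 → 2 ≤ Fintype.card Ω → False := by
    intro m hm h5 h32 h2le
    obtain ⟨q, hq⟩ := D.sixteen_dvd (Ω := Ω)
    have hle := Finset.card_le_univ ((fx D.z)ᶜ : Finset Ω)
    have hne : ((fx D.z)ᶜ : Finset Ω).card ≠ 0 := fun h0 => D.z_ne (eq_one_of_fix fun y : Ω =>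
      mem_fx.1 (by_contra fun hy =>
        (Finset.eq_empty_iff_forall_notMem.1 (Finset.card_eq_zero.1 h0)) y (Finset.mem_compl.2 hy)))
    have hM : ((fx D.z)ᶜ : Finset Ω).card = 16 := by omega
    obtain ⟨a, ha, b, hb, hab⟩ := Finset.one_lt_card.1 (show 1 < ((fx D.z)ᶜ : Finset Ω).card by omega)
    refine hab (D.fix_le_one h2 (D.orderOf_e h2) hm h5 ?_ ?_ ?_)
    · exact Nat.mul_pos (by omega) (by omega)
    · exact D.e_fix_moved h2 hM fun h => Finset.mem_compl.1 ha (mem_fx.2 h)
    · exact D.e_fix_moved h2 hM fun h => Finset.mem_compl.1 hb (mem_fx.2 h)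
  rcases hlist _ hlt hge hdiv with h | h | h | h | h | h
  · exact D.no_sixteen h2 h
  · exact hfew 29952 (by rw [h]) (by norm_num) (by omega) (by omega)
  · exact hfew 27648 (by rw [h]) (by norm_num) (by omega) (by omega)
  · exact D.no_twentyseven h2 h
  · exact D.no_forty h2 h
  · exact D.no_sixtyfive h2 h

end main

end CfsgLib.TitsTT
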