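import Cfsg.Agent.Lib.RankThree.Tits
import Cfsg.Agent.Lib.RankThree.TitsTwoTransGroup
import Cfsg.Agent.Lib.ReeF4Out.BN

/-!
The 2-local elements of the Tits group that rule out a doubly transitive action.
-/

set_option autoImplicit false
set_option linter.unusedSectionVars false
set_option maxRecDepth 4000
set_option maxHeartbeats 1000000

open Cfsg Cfsg.Lie
open scoped commutatorElement

namespace CfsgLib.TitsTTW

open CfsgLib.RankThree.Tits CfsgLib.Chev

abbrev F2 : Type := ZMod 2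
abbrev GG : Type := GL chevF4.Idx (ZMod 2)

/-- products of root elements at 1 -/
@[irreducible] noncomputable def wd (l : List ℕ) : GG := RankThree.Tits.wordGL chevF4 l

theorem wd_def (l : List ℕ) : wd l = RankThree.Tits.wordGL chevF4 l := by unfold wd; rfl

def wU : List ℕ := [33, 24]
def wU' : List ℕ := [14, 23]
def wV : List ℕ := [27, 25, 28]
def wW : List ℕ := [28, 30]
def wW' : List ℕ := [19, 17]
def wZ : List ℕ := [44, 47]
def wZ' : List ℕ := [40, 46]
def wG : List ℕ := [24, 25, 27, 33, 26, 30, 36, 32]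
def wN : List ℕ := wU ++ wU' ++ wU
def wM : List ℕ := wV ++ wW' ++ wV ++ wW
def wC : List ℕ := wU ++ wU'
def wE : List ℕ := wW ++ wW'

/-- two words give the same element -/
noncomputable def chk (a b : List ℕ) : Bool :=
  (a.all fun r => decide (r < 48)) && (b.all fun r => decide (r < 48)) && eqCheck chevF4 F4.tabs a b

theorem weq (a b : List ℕ) (h : chk a b = true) : wd a = wd b := by
  simp only [chk, Bool.and_eq_true, List.all_eq_true, decide_eq_true_eq] at h
  rw [wd_def, wd_def]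
  exact eq_of_check F4.checked h.1.1 h.1.2 h.2

theorem wd_append (a b : List ℕ) : wd (a ++ b) = wd a * wd b := by
  simp only [wd_def]; exact wordGL_append a b

theorem wd_inv (a : List ℕ) (h : a.all (fun r => decide (r < 48)) = true) : (wd a)⁻¹ = wd a.reverse := by
  simp only [List.all_eq_true, decide_eq_true_eq] at h
  rw [wd_def, wd_def]
  exact wordGL_inv F4.checked h

theorem wd_nil : wd [] = 1 := by rw [wd_def]; rfl

theorem gens_mem : wd wU ∈ H ∧ wd wU' ∈ H ∧ wd wV ∈ H ∧ wd wW ∈ H ∧ wd wW' ∈ H := by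
  simp only [wd_def]
  refine ⟨gen_mem.1, mem_genSubgroup F4.checked (by decide) (Or.inl ⟨1, Or.inr rfl⟩) ?_, gen_mem.2.1,
    gen_mem.2.2, mem_genSubgroup F4.checked (by decide) (Or.inr ⟨0, 1, Or.inr rfl⟩) ?_⟩ <;>
  simp [wU', wW', ChevalleyDatum.wordMat, f4PairWord, b2ClassWord, f4m1, f4m4, f4ma, f4mb, f4mab, f4maab,
    x_zero F4.checked (ZMod 2) (show 20 < chevF4.nroots by decide),
    x_zero F4.checked (ZMod 2) (show 22 < chevF4.nroots by decide)]

theorem wordMat_wd : ∀ (l : List ℕ), (∀ r ∈ l, r < chevF4.nroots) →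
    chevF4.wordMat (ZMod 2) (l.map fun r => (r, (1 : ZMod 2))) = (wd l : Matrix chevF4.Idx chevF4.Idx (ZMod 2))
  | [], _ => by rw [wd_def]; rfl
  | r :: l, h => by
    rw [List.forall_mem_cons] at h
    simp only [wd_def, RankThree.Tits.wordGL, ChevalleyDatum.wordMat, List.map_cons, List.prod_cons, Units.val_mul]
    rw [coe_elX F4.checked (ZMod 2) h.1]
    exact congrArg _ ((wordMat_wd l h.2).trans (by rw [wd_def]; rfl))

/-- the five words generate -/
theorem H_le (J : Subgroup GG) (h1 : wd wU ∈ J) (h2 : wd wU' ∈ J) (h3 : wd wV ∈ J) (h4 : wd wW ∈ J)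
    (h5 : wd wW' ∈ J) : H ≤ J := by
  have h6 : wd [27, 25, 30] ∈ J := by
    rw [weq [27, 25, 30] (wV ++ wW) (by decide +kernel), wd_append]; exact mul_mem h3 h4
  have h7 : wd [20, 22, 19] ∈ J := by
    rw [weq [20, 22, 19] (wE ++ wV) (by decide +kernel), wE, wd_append, wd_append]
    exact mul_mem (mul_mem h4 h5) h3
  have h8 : wd [20, 22, 17] ∈ J := by
    rw [weq [20, 22, 17] ([20, 22, 19] ++ wW') (by decide +kernel), wd_append]; exact mul_mem h7 h5
  refine (Subgroup.closure_le _).2 ?_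
  rintro x ⟨p, hp, hx⟩
  have fin : ∀ l : List ℕ, wd l ∈ J → (∀ r ∈ l, r < chevF4.nroots) →
      chevF4.wordMat (ZMod 2) p = chevF4.wordMat (ZMod 2) (l.map fun r => (r, (1 : ZMod 2))) → x ∈ J := by
    intro l hl hb e
    have : x = wd l := Units.ext (by rw [hx, e, wordMat_wd l hb])
    rw [this]; exact hl
  have h0 : wd [] ∈ J := by rw [wd_nil]; exact one_mem J
  have hz : ∀ r ∈ [33, 24, 14, 23, 27, 25, 28, 30, 20, 22, 19, 17], r < chevF4.nroots := by decide
  have two : (1 + 1 : ZMod 2) = 0 := rfl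
  rcases hp with ⟨t, rfl | rfl⟩ | ⟨t, s, rfl | rfl⟩
  · rcases (show ∀ z : ZMod 2, z = 0 ∨ z = 1 by decide) t with rfl | rfl
    on_goal 1 => refine fin _ h0 (by decide) ?_
    on_goal 2 => refine fin _ h1 (by decide) ?_
    all_goals simp [wU, ChevalleyDatum.wordMat, f4PairWord, f4p1, f4p4,
      x_zero F4.checked (ZMod 2) (hz 33 (by decide)), x_zero F4.checked (ZMod 2) (hz 24 (by decide))]
  · rcases (show ∀ z : ZMod 2, z = 0 ∨ z = 1 by decide) t with rfl | rfl
    on_goal 1 => refine fin _ h0 (by decide) ?_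
    on_goal 2 => refine fin _ h2 (by decide) ?_
    all_goals simp [wU', ChevalleyDatum.wordMat, f4PairWord, f4m1, f4m4,
      x_zero F4.checked (ZMod 2) (hz 14 (by decide)), x_zero F4.checked (ZMod 2) (hz 23 (by decide))]
  · rcases (show ∀ z : ZMod 2, z = 0 ∨ z = 1 by decide) t with rfl | rfl <;>
      rcases (show ∀ z : ZMod 2, z = 0 ∨ z = 1 by decide) s with rfl | rfl
    on_goal 1 => refine fin _ h0 (by decide) ?_
    on_goal 2 => refine fin _ h4 (by decide) ?_
    on_goal 3 => refine fin _ h3 (by decide) ?_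
    on_goal 4 => refine fin _ h6 (by decide) ?_
    all_goals simp [wV, wW, two, ChevalleyDatum.wordMat, b2ClassWord, f4a, f4b, f4ab, f4aab,
      x_zero F4.checked (ZMod 2) (hz 27 (by decide)), x_zero F4.checked (ZMod 2) (hz 25 (by decide)),
      x_zero F4.checked (ZMod 2) (hz 28 (by decide)), x_zero F4.checked (ZMod 2) (hz 30 (by decide))]
  · rcases (show ∀ z : ZMod 2, z = 0 ∨ z = 1 by decide) t with rfl | rfl <;>
      rcases (show ∀ z : ZMod 2, z = 0 ∨ z = 1 by decide) s with rfl | rfl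
    on_goal 1 => refine fin _ h0 (by decide) ?_
    on_goal 2 => refine fin _ h5 (by decide) ?_
    on_goal 3 => refine fin _ h7 (by decide) ?_
    on_goal 4 => refine fin _ h8 (by decide) ?_
    all_goals simp [wW', two, ChevalleyDatum.wordMat, b2ClassWord, f4ma, f4mb, f4mab, f4maab,
      x_zero F4.checked (ZMod 2) (hz 20 (by decide)), x_zero F4.checked (ZMod 2) (hz 22 (by decide)),
      x_zero F4.checked (ZMod 2) (hz 19 (by decide)), x_zero F4.checked (ZMod 2) (hz 17 (by decide))]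

/-- the Tits group inside the general linear group -/
noncomputable def co : TitsGroup →* GG := H.subtype.comp (commutator H).subtype

theorem co_inj : Function.Injective co := H.subtype_injective.comp (commutator H).subtype_injective

noncomputable abbrev TT : Subgroup GG := (commutator H).map H.subtype

theorem mem_TT {x : GG} (h : x ∈ TT) : ∃ t : TitsGroup, co t = x := by
  obtain ⟨y, hy, rfl⟩ := h
  exact ⟨⟨y, hy⟩, rfl⟩

theorem co_mem (t : TitsGroup) : co t ∈ TT := ⟨t.1, t.2, rfl⟩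

theorem TT_le : TT ≤ H := Subgroup.map_subtype_le _

theorem TT_conj {h x : GG} (hh : h ∈ H) (hx : x ∈ TT) : h * x * h⁻¹ ∈ TT := by
  obtain ⟨y, hy, rfl⟩ := hx
  have hn : (commutator H).Normal := inferInstance
  refine Subgroup.mem_map.2 ⟨(⟨h, hh⟩ : H) * y * (⟨h, hh⟩ : H)⁻¹, hn.conj_mem y hy _, ?_⟩
  simp only [map_mul, map_inv, Subgroup.subtype_apply]

theorem TT_comm {a b : GG} (ha : a ∈ H) (hb : b ∈ H) : a * b * a⁻¹ * b⁻¹ ∈ TT :=
  ⟨⁅(⟨a, ha⟩ : H), (⟨b, hb⟩ : H)⁆,
    Subgroup.commutator_mem_commutator (Subgroup.mem_top _) (Subgroup.mem_top _), rfl⟩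

theorem wd_mem_pos (l : List ℕ) (P : ℕ → Prop) (h : ∀ r ∈ l, r < chevF4.nroots ∧ P r) :
    wd l ∈ uGen chevF4 (ZMod 2) P := by
  rw [wd_def]
  refine Subgroup.list_prod_mem _ fun x hx => ?_
  obtain ⟨r, hr, rfl⟩ := List.mem_map.1 hx
  exact elX_mem_uGen (h r hr).1 (h r hr).2 _

/-- positive roots -/
abbrev Pos : ℕ → Prop := CfsgLib.ReeF4.PosR
/-- the roots of the radical of the second parabolic subgroup -/
abbrev Keep : ℕ → Prop := KeepRoot chevF4 CfsgLib.ReeF4.tb (CfsgLib.ReeF4.jl true)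

theorem pos_commute {w : List ℕ} (hw : w.all (fun r => decide (r < 48)) = true)
    (h : allNat 24 (fun i => chk ((i + 24) :: w) (w ++ [i + 24])) = true) {b : GG}
    (hb : b ∈ uGen chevF4 (ZMod 2) Pos) : Commute (wd w) b := by
  suffices hle : uGen chevF4 (ZMod 2) Pos ≤ Subgroup.centralizer {wd w} from
    (Subgroup.mem_centralizer_iff.1 (hle hb) _ rfl)
  refine uGen_le_iff.2 fun r hr hp t => Subgroup.mem_centralizer_singleton_iff.2 ?_
  rcases (show ∀ z : ZMod 2, z = 0 ∨ z = 1 by decide) t with rfl | rfl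
  · rw [elX_zero F4.checked (ZMod 2) hr]; simp
  · obtain ⟨i, rfl⟩ : ∃ i, r = i + 24 := ⟨r - 24, by
      have : 24 ≤ r := hp
      omega⟩
    have hr' : i + 24 < 48 := hr
    have := weq _ _ (allNat_iff.mp h i (by omega))
    rw [wd_append, show (i + 24) :: w = [i + 24] ++ w from rfl, wd_append,
      show wd [i + 24] = elX chevF4 (ZMod 2) (i + 24) 1 from by simp [wd_def, RankThree.Tits.wordGL]] at this
    exact this

/-- conjugates modulo a subgroup centralised by everything -/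
theorem coset_conj {G : Type*} [Group G] (S : Set G) (z : G) (E : Subgroup G)
    (hcen : ∀ y ∈ Subgroup.closure S, ∀ ε ∈ E, Commute ε y)
    (hgen : ∀ x ∈ S, ∃ ε ∈ E, x * z * x⁻¹ = z * ε) {b : G} (hb : b ∈ Subgroup.closure S) :
    ∃ ε ∈ E, b * z * b⁻¹ = z * ε := by
  induction hb using Subgroup.closure_induction with
  | mem x hx => exact hgen x hx
  | one => exact ⟨1, one_mem _, by simp⟩
  | mul x y hx hy ihx ihy =>
    obtain ⟨a, ha, ea⟩ := ihx
    obtain ⟨c, hc, ec⟩ := ihy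
    refine ⟨a * c, mul_mem ha hc, ?_⟩
    calc x * y * z * (x * y)⁻¹ = x * (y * z * y⁻¹) * x⁻¹ := by group
      _ = x * z * (c * x⁻¹) := by rw [ec]; group
      _ = x * z * x⁻¹ * c := by rw [(hcen _ (inv_mem hx) c hc).eq]; group
      _ = _ := by rw [ea, mul_assoc]
  | inv x hx ihx =>
    obtain ⟨a, ha, ea⟩ := ihx
    refine ⟨a⁻¹, inv_mem ha, ?_⟩
    have h2 : z = x⁻¹ * (z * a) * x := by rw [← ea]; group
    calc x⁻¹ * z * x⁻¹⁻¹ = x⁻¹ * (z * a) * x * (x⁻¹ * a⁻¹ * x) := by group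
      _ = z * (x⁻¹ * (a⁻¹ * x)) := by rw [← h2]; group
      _ = _ := by rw [(hcen x hx _ (inv_mem ha)).eq]; group

theorem four_closure {G : Type*} [Group G] {a b : G} (ha : a * a = 1) (hb : b * b = 1)
    (hab : b * a = a * b) {ε : G} (hε : ε ∈ Subgroup.closure {a, b}) :
    ε = 1 ∨ ε = a ∨ ε = b ∨ ε = a * b := by
  have a1 : ∀ x : G, a * (a * x) = x := fun x => by rw [← mul_assoc, ha, one_mul]
  have a2 : ∀ x : G, b * (b * x) = x := fun x => by rw [← mul_assoc, hb, one_mul]
  have a3 : ∀ x : G, b * (a * x) = a * (b * x) := fun x => by rw [← mul_assoc, hab, mul_assoc]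
  induction hε using Subgroup.closure_induction with
  | mem x hx => rcases hx with rfl | rfl <;> simp
  | one => simp
  | mul x y hx hy ihx ihy =>
    rcases ihx with rfl | rfl | rfl | rfl <;> rcases ihy with rfl | rfl | rfl | rfl <;>
      simp [mul_assoc, ha, hb, hab, a1, a2, a3]
  | inv x hx ihx =>
    rcases ihx with rfl | rfl | rfl | rfl <;>
      simp [inv_eq_of_mul_eq_one_right ha, inv_eq_of_mul_eq_one_right hb, hab]

theorem zp_gen (r : ℕ) (hr : r < chevF4.nroots) (hp : Pos r) :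
    ∃ ε ∈ Subgroup.closure ({wd [44], wd [47]} : Set GG),
      elX chevF4 (ZMod 2) r 1 * wd wZ' * (elX chevF4 (ZMod 2) r 1)⁻¹ = wd wZ' * ε := by
  obtain ⟨i, rfl⟩ : ∃ i, r = i + 24 := ⟨r - 24, by
    have : 24 ≤ r := hp
    omega⟩
  have hr' : i + 24 < 48 := hr
  have h := allNat_iff.mp (show allNat 24 (fun i =>
      chk ([i + 24] ++ wZ' ++ [i + 24]) wZ' || chk ([i + 24] ++ wZ' ++ [i + 24]) (wZ' ++ [44]) ||
        chk ([i + 24] ++ wZ' ++ [i + 24]) (wZ' ++ [47])) = true by decide +kernel) i (by omega)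
  have hx : elX chevF4 (ZMod 2) (i + 24) 1 * wd wZ' * (elX chevF4 (ZMod 2) (i + 24) 1)⁻¹ =
      wd ([i + 24] ++ wZ' ++ [i + 24]) := by
    rw [wd_append, wd_append, show elX chevF4 (ZMod 2) (i + 24) 1 = wd [i + 24] from by
      simp [wd_def, RankThree.Tits.wordGL], wd_inv [i + 24] (by simp [hr'])]
    rfl
  simp only [Bool.or_eq_true] at h
  rcases h with (h | h) | h
  · exact ⟨1, one_mem _, by rw [hx, weq _ _ h, mul_one]⟩
  · exact ⟨_, Subgroup.subset_closure (Or.inl rfl), by rw [hx, weq _ _ h, wd_append]⟩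
  · exact ⟨_, Subgroup.subset_closure (Or.inr rfl), by rw [hx, weq _ _ h, wd_append]⟩

theorem cen_pair {G : Type*} [Group G] {a b : G} (y : G) (ha : Commute a y) (hb : Commute b y) {ε : G}
    (hε : ε ∈ Subgroup.closure {a, b}) : Commute ε y := by
  induction hε using Subgroup.closure_induction with
  | mem x hx => rcases hx with rfl | rfl <;> assumption
  | one => exact Commute.one_left y
  | mul u v _ _ hu hv => exact hu.mul_left hv
  | inv u _ hu => exact hu.inv_left

/-- the possible shifts of `z'` -/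
theorem zp_conj {b : GG} (hb : b ∈ uGen chevF4 (ZMod 2) Pos) :
    ∃ ε ∈ ({1, wd [44], wd [47], wd [44, 47]} : Set GG), b * wd wZ' * b⁻¹ = wd wZ' * ε := by
  set E : Subgroup GG := Subgroup.closure {wd [44], wd [47]}
  have hcen : ∀ {y : GG}, y ∈ uGen chevF4 (ZMod 2) Pos → ∀ ε ∈ E, Commute ε y := fun {y} hy ε hε => by
    refine cen_pair y ?_ ?_ hε
    · exact pos_commute (w := [44]) (by decide) (by decide +kernel) hy
    · exact pos_commute (w := [47]) (by decide) (by decide +kernel) hy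
  obtain ⟨ε, hε, he⟩ := coset_conj {g | ∃ (r : ℕ) (t : ZMod 2), r < chevF4.nroots ∧ Pos r ∧
      g = elX chevF4 (ZMod 2) r t} (wd wZ') E (fun y hy => hcen (by rw [uGen]; exact hy)) (by
    rintro x ⟨r, t, hr, hp, rfl⟩
    rcases (show ∀ z : ZMod 2, z = 0 ∨ z = 1 by decide) t with rfl | rfl
    · exact ⟨1, one_mem _, by rw [elX_zero F4.checked (ZMod 2) hr]; simp⟩
    · exact zp_gen r hr hp) (b := b) (by rw [uGen] at hb; exact hb)
  refine ⟨ε, ?_, he⟩
  rcases four_closure (by rw [← wd_append, weq _ [] (by decide +kernel), wd_nil])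
    (by rw [← wd_append, weq _ [] (by decide +kernel), wd_nil])
    (by rw [← wd_append, ← wd_append, weq ([47] ++ [44]) ([44] ++ [47]) (by decide +kernel)]) hε
    with h | h | h | h
  · exact Or.inl h
  · exact Or.inr (Or.inl h)
  · exact Or.inr (Or.inr (Or.inl h))
  · exact Or.inr (Or.inr (Or.inr (h.trans (wd_append [44] [47]).symm)))

theorem half {G : Type*} [Group G] [Finite G] (C X : Subgroup G) (hC : C.index = 2) :
    Nat.card X ≤ 2 * Nat.card ↥(X ⊓ C) := by
  have h := Subgroup.index_inf_le (H := X) (K := C)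
  rw [hC] at h
  have h1 := Subgroup.card_mul_index X
  have h2 := Subgroup.card_mul_index (X ⊓ C)
  have h3 : Nat.card ↥(X ⊓ C) * (X ⊓ C).index ≤ Nat.card ↥(X ⊓ C) * (X.index * 2) := Nat.mul_le_mul_left _ h
  rw [h2, ← h1, mul_comm X.index 2, ← mul_assoc, mul_comm _ 2] at h3
  exact Nat.le_of_mul_le_mul_right h3 (Nat.pos_of_ne_zero Subgroup.index_ne_zero_of_finite)

theorem card_comap_co (P : ℕ → Prop) :
    Nat.card ↥((uGen chevF4 (ZMod 2) P).comap co) =
      Nat.card ↥((uGen chevF4 (ZMod 2) P).subgroupOf H ⊓ commutator H) := by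
  show Nat.card ↥(((uGen chevF4 (ZMod 2) P).subgroupOf H).subgroupOf (commutator H)) = _
  rw [← Subgroup.inf_subgroupOf_right]
  exact Nat.card_congr (Subgroup.subgroupOfEquivOfLe inf_le_right).toEquiv

theorem H_eq : H = CfsgLib.ReeF4.G1 (ZMod 2) 0 :=
  (congrArg (twistedF4 (ZMod 2)) (pow_zero 2)).symm

theorem card_subgroupOf_H {σ : MulAut ↥(chevF4.group (ZMod 2))} (hσ : CfsgLib.ReeF4.IsSigma 0 σ)
    (P : ℕ → Prop) (hP : ∀ r, r < chevF4.nroots → P r → Pos r) :
    Nat.card ↥((uGen chevF4 (ZMod 2) P).subgroupOf H) = Nat.card ↥(CfsgLib.ReeF4.V σ P) := by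
  rw [← Subgroup.inf_subgroupOf_right]
  have h : uGen chevF4 (ZMod 2) P ⊓ H = CfsgLib.ReeF4.V σ P :=
    le_antisymm (inf_le_inf_left _ (H_eq.le.trans (CfsgLib.ReeF4.G1_le_fix hσ)))
      (le_inf inf_le_left (((CfsgLib.ReeF4.V_mono hP).trans (CfsgLib.ReeF4.V_pos_le hσ)).trans H_eq.ge))
  rw [h]
  exact Nat.card_congr (Subgroup.subgroupOfEquivOfLe
    (((CfsgLib.ReeF4.V_mono hP).trans (CfsgLib.ReeF4.V_pos_le hσ)).trans H_eq.ge)).toEquiv

end CfsgLib.TitsTTW
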